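import Groth.Agent.TautSh.K341.Num
import Groth.Agent.TautSh.K341.Reg

/-!
# Slope stability of the tautological bundle of an invertible module on the Hilbert square of a surface
-/

set_option autoImplicit false
set_option backward.isDefEq.respectTransparency false
universe u

open CategoryTheory CategoryTheory.Limits AlgebraicGeometry TopologicalSpace

namespace K341.Main

open Groth.Agent Groth.Agent.Divis.StalkMod K992.FibPow K992.BigDiag K341.Pts K341.Geo K848.Rank K848.Hull K848.Dim ShStab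
  K341.Key

section Cover

variable {k : Type u} [Field k] [IsAlgClosed k] [CharZero k] (X : Scheme.{u}) [X.Over (Spec (CommRingCat.of k))]
  [Smooth (X ↘ Spec (CommRingCat.of k))] [IsProper (X ↘ Spec (CommRingCat.of k))] [AlgebraicGeometry.IsIntegral X]
  (hdim : topologicalKrullDim X = 2)
  {Y : Scheme.{u}} (q : SymProd.fibPow (X ↘ Spec (CommRingCat.of k)) 2 ⟶ Y) [IsFinite q]
  (gY : Y ⟶ Spec (CommRingCat.of k)) (hY : SymProd.IsSymProd (X ↘ Spec (CommRingCat.of k)) 2 q gY)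
  {Hs : Scheme.{u}} [Hs.Over (Spec (CommRingCat.of k))] [IsProper (Hs ↘ Spec (CommRingCat.of k))]
  [AlgebraicGeometry.IsIntegral Hs] (hHs : topologicalKrullDim Hs = 4)
  (Z : HilbD.Obj (X ↘ Spec (CommRingCat.of k)) 2 (Over.mk (Hs ↘ Spec (CommRingCat.of k))))
  (ρ : Hs ⟶ Y) (hρ : TautSh.IsHilbChow (X ↘ Spec (CommRingCat.of k)) 2 (Over.mk (Hs ↘ Spec (CommRingCat.of k))) Z.1 q gY ρ)
  (D : Data (X ↘ Spec (CommRingCat.of k)) Z (q ⁻¹ᵁ Wo (X ↘ Spec (CommRingCat.of k)) q))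

/-- The projection of the universal family. -/
noncomputable abbrev pH : Z.1.subscheme ⟶ Hs :=
  TautSh.famToH (X ↘ Spec (CommRingCat.of k)) (Over.mk (Hs ↘ Spec (CommRingCat.of k))) Z.1

omit [IsAlgClosed k] [CharZero k] [Smooth (X ↘ Spec (CommRingCat.of k))] [IsProper (X ↘ Spec (CommRingCat.of k))]
  [AlgebraicGeometry.IsIntegral X] [IsProper (Hs ↘ Spec (CommRingCat.of k))] [AlgebraicGeometry.IsIntegral Hs] in
theorem pH_props : IsFinite (pH X Z) ∧ Flat (pH X Z) ∧ LocallyOfFinitePresentation (pH X Z) ∧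
    (∀ y : Hs, (pH X Z).finrank y = 2) ∧ Surjective (pH X Z) := by
  obtain ⟨⟨h1, h2, h3⟩, h4⟩ := Z.2
  have h1' : IsFinite (pH X Z) := h1
  have h2' : Flat (pH X Z) := h2
  exact ⟨h1', h2', h3, h4, Push.surjective_of_finrank (pH X Z) two_ne_zero h4⟩

include hdim hY hHs hρ D in
theorem exists_cover : ∃ (L : Hs.Modules) (_ : PicF.IsInvertible L)
    (m : CohB1.tensorMod L L ⟶ Coh.structureModule Hs),
    Nonempty ((Scheme.Modules.pushforward (pH X Z)).obj (Coh.structureModule Z.1.subscheme) ≅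
      Coh.structureModule Hs ⊞ L) ∧ ∀ h ∈ CohB1.support (cokernel m), ρ h ∉ Wo (X ↘ Spec (CommRingCat.of k)) q := by
  obtain ⟨h1, h2, h3, h4, h5⟩ := pH_props X Z
  obtain ⟨L, hL, m, hi, hm⟩ := K554.DblSplit.exists_split (pH X Z) h4
    (isUnit_two (k := k) (Hs ↘ Spec (CommRingCat.of k)))
  refine ⟨L, hL, m, hi, fun h hh hW => ?_⟩
  have hN : IsLocallyNoetherian Hs := LocallyOfFiniteType.isLocallyNoetherian (Hs ↘ Spec (CommRingCat.of k))
  have hcm : Coh.IsCoh (cokernel m) := Groth.Agent.PerfA.CohSerre.isCoh_cokernel m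
    (Fga.SnapperTwist.isCoh_tensor' hL (isCoh_of_isInvertible hL)).1 K848.Stab.isCoh_structureModule
  obtain ⟨hr, -⟩ := range_c (X ↘ Spec (CommRingCat.of k)) hdim q gY hY hHs Z ρ hρ D
  have hh' : h ∈ Set.range D.c := by
    rw [hr]
    exact hW
  obtain ⟨v, hv⟩ := hh'
  obtain ⟨z, z', hz, hzz, hT⟩ := exists_pair (X ↘ Spec (CommRingCat.of k)) q gY hY Z D (CohB1.support (cokernel m))
    (Ega3B.Devissage.isClosed_support hcm) ⟨v, by rw [hv]; exact hh⟩
  exact hm z z' hz hzz hT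

end Cover

theorem quasiFiniteAt_of_restrict {H Y : Scheme.{u}} (ρ : H ⟶ Y) (W : Y.Opens) (h : IsFinite (ρ ∣_ W)) (x : H)
    (hx : ρ x ∈ W) : ρ.QuasiFiniteAt x := by
  have h1 : LocallyQuasiFinite ((ρ ⁻¹ᵁ W).ι ≫ ρ) := by
    rw [← morphismRestrict_ι]
    infer_instance
  have h2 := Scheme.Hom.quasiFiniteAt ((ρ ⁻¹ᵁ W).ι ≫ ρ) ⟨x, hx⟩
  have h3 := (Scheme.Hom.quasiFiniteAt_comp_iff_of_isOpenImmersion (f := (ρ ⁻¹ᵁ W).ι) (g := ρ) (x := ⟨x, hx⟩)).1 h2
  exact h3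

theorem isInvertible_of_isInverseOf {X : Scheme.{u}} {D D' : X.Modules} (h : ClSub.IsInverseOf D' D) :
    PicF.IsInvertible D' := by
  obtain ⟨e⟩ := h
  exact Fga.IntAdd.isInvertible_of_tensor (Ega2.Tens.swap D D' ≪≫ e)

section Stable

variable {k : Type u} [Field k] [IsAlgClosed k] [CharZero k] (X : Scheme.{u}) [X.Over (Spec (CommRingCat.of k))]
  [Smooth (X ↘ Spec (CommRingCat.of k))] [IsProper (X ↘ Spec (CommRingCat.of k))] [AlgebraicGeometry.IsIntegral X]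
  (hdim : topologicalKrullDim X = 2) (Hl : X.Modules) (hHl : CohB1.IsAmple Hl)
  {Y : Scheme.{u}} (q : SymProd.fibPow (X ↘ Spec (CommRingCat.of k)) 2 ⟶ Y)
  (gY : Y ⟶ Spec (CommRingCat.of k)) (hY : SymProd.IsSymProd (X ↘ Spec (CommRingCat.of k)) 2 q gY)
  (Hs : Scheme.{u}) [Hs.Over (Spec (CommRingCat.of k))] [IsProper (Hs ↘ Spec (CommRingCat.of k))]
  (Z : HilbD.Obj (X ↘ Spec (CommRingCat.of k)) 2 (Over.mk (Hs ↘ Spec (CommRingCat.of k))))
  (hU : HilbD.IsUniversal (X ↘ Spec (CommRingCat.of k)) 2 (Over.mk (Hs ↘ Spec (CommRingCat.of k))) Z)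
  (ρ : Hs ⟶ Y) (hρ : TautSh.IsHilbChow (X ↘ Spec (CommRingCat.of k)) 2 (Over.mk (Hs ↘ Spec (CommRingCat.of k))) Z.1 q gY ρ)

include hU hY in
theorem nonempty_data_Wo [IsFinite q] : Nonempty (Data (X ↘ Spec (CommRingCat.of k)) Z
    (q ⁻¹ᵁ Wo (X ↘ Spec (CommRingCat.of k)) q)) := by
  refine nonempty_data (X ↘ Spec (CommRingCat.of k)) Z hU _ (fun t ht => ?_) fun t ht => ?_
  · exact (mem_preimage_Wo (X ↘ Spec (CommRingCat.of k)) q gY hY).1 ht
  · rw [mem_preimage_Wo (X ↘ Spec (CommRingCat.of k)) q gY hY] at ht ⊢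
    exact fun h => ht (swap_mem _ h)

include hdim Hl hHl hY hU hρ in
theorem stable (F : X.Modules) (hF : PicF.IsInvertible F) (hFO : IsEmpty (F ≅ Coh.structureModule X))
    (M : Y.Modules) (hM : TautSh.IsSymPowLB (X ↘ Spec (CommRingCat.of k)) 2 q Hl M)
    (D' : Hs.Modules) (hD' : PicF.IsInvertible D') : ∃ N0 : ℕ, ∀ N : ℕ, N0 ≤ N →
      CohB1.IsAmple (CohB1.tensorMod (CohB1.tensorPow ((Scheme.Modules.pullback ρ).obj M) N) D') →
        ShStab.IsMuStable k Hs (CohB1.tensorMod (CohB1.tensorPow ((Scheme.Modules.pullback ρ).obj M) N) D')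
          (TautSh.taut (X ↘ Spec (CommRingCat.of k)) (Over.mk (Hs ↘ Spec (CommRingCat.of k))) Z.1 F) 4 := by
  obtain ⟨hI, hHs, hreg⟩ := K341.Reg.regular_of_points k X hdim Hl hHl Hs 2 Z hU
  obtain ⟨hgY, hq, hqs, hqd⟩ := K639.SymFacts.quot_facts_gen (X ↘ Spec (CommRingCat.of k)) 1 q gY hY
  obtain ⟨Dt⟩ := nonempty_data_Wo X q gY hY Hs Z hU
  have hHs4 : topologicalKrullDim Hs = (4 : ℕ) := hHs
  have hHs4' : topologicalKrullDim Hs = 4 := hHs
  have hIZ : IsIntegral Z.1.subscheme := isIntegral_fam (X ↘ Spec (CommRingCat.of k)) hdim q gY hY hHs4' Z ρ hρ Dt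
  obtain ⟨h1, h2, h3, h4, h5⟩ := pH_props X Z
  obtain ⟨L, hL, m, ⟨e⟩, hmC⟩ := exists_cover X hdim q gY hY hHs4' Z ρ hρ Dt
  obtain ⟨hr, hfin⟩ := range_c (X ↘ Spec (CommRingCat.of k)) hdim q gY hY hHs4' Z ρ hρ Dt
  letI : Z.1.subscheme.Over (Spec (CommRingCat.of k)) := ⟨pH X Z ≫ (Hs ↘ Spec (CommRingCat.of k))⟩
  have hprop : IsProper (Z.1.subscheme ↘ Spec (CommRingCat.of k)) :=
    inferInstanceAs (IsProper (pH X Z ≫ (Hs ↘ Spec (CommRingCat.of k))))
  have hNZ : IsLocallyNoetherian Z.1.subscheme :=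
    LocallyOfFiniteType.isLocallyNoetherian (Z.1.subscheme ↘ Spec (CommRingCat.of k))
  have hgen : genericPoint Hs ∉ CohB1.support (cokernel m) := by
    intro hg
    apply hmC _ hg
    obtain ⟨x, hx⟩ := exists_notMem_bigDiag (X ↘ Spec (CommRingCat.of k)) hdim
    have hxr : Dt.c ⟨x, (mem_preimage_Wo (X ↘ Spec (CommRingCat.of k)) q gY hY).2 hx⟩ ∈ Set.range Dt.c := ⟨_, rfl⟩
    rw [hr] at hxr
    exact (genericPoint_spec Hs).mem_open_set_iff (ρ ⁻¹ᵁ Wo (X ↘ Spec (CommRingCat.of k)) q).isOpen |>.2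
      ⟨_, trivial, hxr⟩
  have hCρ : topologicalKrullDim (closure (ρ '' CohB1.support (cokernel m))) < (3 : ℕ) := by
    have hcl : IsClosed (q '' bigDiag (X ↘ Spec (CommRingCat.of k)) 1) :=
      q.isClosedMap _ (isClosed_bigDiag (X ↘ Spec (CommRingCat.of k)) 1)
    have hsub : closure (ρ '' CohB1.support (cokernel m)) ⊆ q '' bigDiag (X ↘ Spec (CommRingCat.of k)) 1 := by
      refine closure_minimal ?_ hcl
      rintro _ ⟨h, hh, rfl⟩
      by_contra hne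
      exact hmC h hh hne
    refine lt_of_le_of_lt ((Fga.DimLt.topologicalKrullDim_mono hsub).trans
      (K639.SymFacts.dim_disc_gen (X ↘ Spec (CommRingCat.of k)) q)) ?_
    rw [hdim]
    decide
  exact K341.Num.exists_bound k (pH X Z) rfl hL e hreg hHs4 gY ρ hρ.1 M
    (K639.SymFacts.ample_gen k (X ↘ Spec (CommRingCat.of k)) q gY hY Hl hHl M hM) D' hD'
    (F := (Scheme.Modules.pullback (TautSh.famToX (X ↘ Spec (CommRingCat.of k)) _ Z.1)).obj F)
    (Fdesc.LocGen.isInvertible_pullback _ hF) m hgen hCρ (by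
      intro G hG u hu hrk
      obtain ⟨h, hW, hs, h3'⟩ := exists_div X hdim q gY hY hHs4' Z ρ hρ Dt F hF hFO G hG u hu hrk
      exact ⟨h, hs, h3', quasiFiniteAt_of_restrict ρ _ hfin h hW⟩)

end Stable

end K341.Main
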