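import Groth.Agent.TautSh.K341.Main
import Groth.Agent.TautSh.K254.MuMap
import Groth.Agent.TautSh.K974.ThroughPtMain
import Groth.Agent.VarietyB.RestrSeq
import Groth.Agent.Sga67.ClosedPush
import Groth.Agent.TopDim.K284.Basic
import Groth.Agent.Fga.Compare

/-!
# Tautological sheaves of rank one torsion-free modules

Comparison of `(L ⊗ I)^[2]` and `L^[2]` for an ideal `I` of a finite subscheme.
-/

set_option autoImplicit false
set_option backward.isDefEq.respectTransparency false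
universe u

open CategoryTheory CategoryTheory.Limits AlgebraicGeometry TopologicalSpace

namespace K341.Sub

open Groth.Agent Groth.Agent.Divis.StalkMod K992.FibPow K992.BigDiag K341.Pts K341.Geo K848.Rank K848.Hull K848.Dim ShStab
  K341.Key K341.Main

theorem app_bijective_of_restrict {X : Scheme.{u}} {M N : X.Modules} (φ : M ⟶ N) (V : X.Opens)
    (h : IsIso ((Scheme.Modules.restrictFunctor V.ι).map φ)) (W : X.Opens) (hW : W ≤ V) :
    Function.Bijective (φ.app W) := by
  have h1 : IsIso (((Scheme.Modules.restrictFunctor V.ι).map φ).app (V.ι ⁻¹ᵁ W)) := inferInstance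
  have h2 : IsIso (φ.app (V.ι ''ᵁ (V.ι ⁻¹ᵁ W))) := h1
  have h3 : V.ι ''ᵁ (V.ι ⁻¹ᵁ W) = W := by
    rw [Scheme.Hom.image_preimage_eq_opensRange_inf, Scheme.Opens.opensRange_ι]
    exact inf_eq_right.2 hW
  rw [h3] at h2
  exact (ConcreteCategory.isIso_iff_bijective _).1 h2

/-- a space covered by finitely many closed subsets of dimension `≤ d` has dimension `≤ d` -/
theorem dim_le_of_closed_cover {X : Type u} [TopologicalSpace X] (Y : Set X) {d : WithBot ℕ∞}
    (S : Finset (Set X)) (hS : ∀ Z ∈ S, IsClosed Z) (hd : ∀ Z ∈ S, topologicalKrullDim Z ≤ d)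
    (hY : Y ⊆ ⋃₀ (S : Set (Set X))) : topologicalKrullDim Y ≤ d := by
  rw [Groth.Agent.VarietyB.DimTop.topologicalKrullDim_eq_iSup_irreducibleComponents]
  refine iSup_le fun ⟨Z, hZ⟩ => ?_
  have hirr : IsIrreducible ((fun y : Y => (y : X)) '' Z) :=
    hZ.1.image _ continuous_subtype_val.continuousOn
  obtain ⟨W, hW, hZW⟩ := isIrreducible_iff_sUnion_isClosed.mp hirr S hS (by
    rintro _ ⟨y, -, rfl⟩
    exact hY y.2)
  refine le_trans ?_ (hd W hW)
  exact Groth.Agent.VarietyB.DimTop.topologicalKrullDim_le_of_isEmbedding (f := fun y : Y => (y : X))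
    Topology.IsInducing.subtypeVal Z W (fun y hy => hZW ⟨y, hy, rfl⟩)

/-- The image of a closed subset under a closed morphism has no larger dimension. -/
theorem dim_image_le {P Y : Scheme.{u}} (q : P ⟶ Y) (hq : IsClosedMap q) (T : Set P) (hT : IsClosed T) :
    topologicalKrullDim (q '' T) ≤ topologicalKrullDim T := by
  have : QuasiSober T := hT.isClosedEmbedding_subtypeVal.quasiSober
  have : QuasiSober (q '' T) := (hq T hT).isClosedEmbedding_subtypeVal.quasiSober
  refine K639.SymFacts.dim_le_of_closed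
    (fun y : T => (⟨q y.1, y.1, y.2, rfl⟩ : (q '' T : Set Y)))
    (Continuous.subtype_mk (q.continuous.comp continuous_subtype_val) _) ?_ ?_
  · intro A hA
    have h1 : IsClosed (q '' (Subtype.val '' A)) := hq _ (hT.isClosedMap_subtype_val _ hA)
    have h2 : (fun y : T => (⟨q y.1, y.1, y.2, rfl⟩ : (q '' T : Set Y))) '' A =
        Subtype.val ⁻¹' (q '' (Subtype.val '' A)) := by
      ext z
      constructor
      · rintro ⟨y, hy, rfl⟩
        exact ⟨y.1, ⟨y, hy, rfl⟩, rfl⟩
      · rintro ⟨_, ⟨y, hy, rfl⟩, h⟩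
        exact ⟨y, hy, Subtype.ext h⟩
    rw [h2]
    exact h1.preimage continuous_subtype_val
  · rintro ⟨_, y, hy, rfl⟩
    exact ⟨⟨y, hy⟩, rfl⟩

section Push

variable {X Z H : Scheme.{u}} (p : Z ⟶ H) (σ : Z ⟶ X) {A B : X.Modules} (j : A ⟶ B) (W : X.Opens)
  (hj : IsIso ((Scheme.Modules.restrictFunctor W.ι).map j)) (U : H.Opens) (hU : ∀ z, p z ∈ U → σ z ∈ W)

include hj in
theorem isIso_restrict_pullback : IsIso ((Scheme.Modules.restrictFunctor (σ ⁻¹ᵁ W).ι).map ((Scheme.Modules.pullback σ).map j)) := by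
  have h1 := isIso_pullback_of_range ((σ ⁻¹ᵁ W).ι ≫ σ) j W hj (fun t => by
    rw [Scheme.Hom.comp_apply]
    exact t.2)
  have h2 : IsIso ((Scheme.Modules.pullback (σ ⁻¹ᵁ W).ι).map ((Scheme.Modules.pullback σ).map j)) :=
    (NatIso.isIso_map_iff (Scheme.Modules.pullbackComp (σ ⁻¹ᵁ W).ι σ) j).2 h1
  exact (NatIso.isIso_map_iff (Scheme.Modules.restrictFunctorIsoPullback (σ ⁻¹ᵁ W).ι) _).2 h2

include hj hU in
theorem bijective_app_push (V : H.Opens) (hV : V ≤ U) :
    Function.Bijective (((Scheme.Modules.pushforward p).map ((Scheme.Modules.pullback σ).map j)).app V) :=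
  app_bijective_of_restrict _ (σ ⁻¹ᵁ W) (isIso_restrict_pullback σ j W hj) (p ⁻¹ᵁ V) (fun z hz => hU z (hV hz))

include hj hU in
theorem support_kernel_push : CohB1.support (kernel ((Scheme.Modules.pushforward p).map ((Scheme.Modules.pullback σ).map j))) ⊆
    (U : Set H)ᶜ := fun x hx hxU =>
  Fga.Compare.not_mem_support_kernel U _ (fun V hV m hm =>
    (bijective_app_push p σ j W hj U hU V hV).1 (by rw [hm, map_zero])) x hxU hx

include hj hU in
theorem support_cokernel_push : CohB1.support (cokernel ((Scheme.Modules.pushforward p).map ((Scheme.Modules.pullback σ).map j))) ⊆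
    (U : Set H)ᶜ := fun x hx hxU =>
  Fga.Compare.not_mem_support_cokernel U _ (fun V hV m =>
    (bijective_app_push p σ j W hj U hU V hV).2 m) x hxU hx

end Push

/-- The inclusion `L ⊗ I ⟶ L` is an isomorphism off the subscheme. -/
theorem isIso_restrict_tensIdealι {X : Scheme.{u}} {L : X.Modules} (hL : PicF.IsInvertible L) (I : X.IdealSheafData)
    (W : X.Opens) (hW : ∀ x ∈ W, x ∉ (I.support : Set X)) :
    IsIso ((Scheme.Modules.restrictFunctor W.ι).map (VarietyB.RestrSeq.tensIdealι L I)) := by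
  have hb : VarietyB.TensCoh.HasBases L :=
    VarietyB.TensCoh.HasBases.of_isFinLocFreeOfRank (Ega2.QCohLocal.isFinLocFreeOfRank_one_iff.mpr hL)
  have hS := VarietyB.RestrSeq.restrSeq_shortExact hb I
  refine K848.Hartogs.isIso_restrict_of_stalk _ fun x hx => ?_
  have h1 : Mono (VarietyB.RestrSeq.tensIdealι L I) := hS.mono_f
  refine ⟨CycB.StalkExact.stalkLin_injective _ x, (K848.Hartogs.not_mem_support_cokernel_iff _ x).1 ?_⟩
  intro hx'
  have h2 := hS.epi_g
  let e : cokernel (VarietyB.RestrSeq.tensIdealι L I) ≅ (VarietyB.RestrSeq.restrSeq hb I).X₃ :=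
    (cokernelIsCokernel _).coconePointUniqueUpToIso hS.gIsCokernel
  have h3 : x ∈ CohB1.support (VarietyB.RestrSeq.restrSeq hb I).X₃ := by
    rwa [← CohqB.DevSupport.support_congr e]
  have h4 : CohB1.support (VarietyB.RestrSeq.restrSeq hb I).X₃ = _ :=
    Sga67.ClosedPush.support_pushforward I.subschemeι _
  rw [h4] at h3
  obtain ⟨y, -, rfl⟩ := h3
  apply hW _ hx
  rw [← Scheme.IdealSheafData.range_subschemeι]
  exact ⟨y, rfl⟩

/-- The points of the support of an ideal of a zero-dimensional subscheme. -/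
theorem finite_support {X : Scheme.{u}} [IsNoetherian X] (I : X.IdealSheafData) (hI : topologicalKrullDim I.subscheme ≤ 0) :
    (I.support : Set X).Finite ∧ ∀ x ∈ (I.support : Set X), IsClosed ({x} : Set X) := by
  have hn : NoetherianSpace I.subscheme := I.subschemeι.isClosedEmbedding.isInducing.noetherianSpace
  obtain ⟨h1, h2⟩ := K284.TopDim.finite_discrete_of_dim_le_zero (X := I.subscheme) hI
  constructor
  · rw [← Scheme.IdealSheafData.range_subschemeι]
    exact Set.finite_range _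
  · intro x hx
    rw [← Scheme.IdealSheafData.range_subschemeι] at hx
    obtain ⟨y, rfl⟩ := hx
    rw [← Set.image_singleton]
    exact I.subschemeι.isClosedEmbedding.isClosedMap _ (isClosed_discrete _)

section Stable

variable {k : Type u} [Field k] [IsAlgClosed k] [CharZero k] (X : Scheme.{u}) [X.Over (Spec (CommRingCat.of k))]
  [Smooth (X ↘ Spec (CommRingCat.of k))] [IsProper (X ↘ Spec (CommRingCat.of k))] [AlgebraicGeometry.IsIntegral X]
  (hdim : topologicalKrullDim X = 2) (Hl : X.Modules) (hHl : CohB1.IsAmple Hl)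
  (Hs : Scheme.{u}) [Hs.Over (Spec (CommRingCat.of k))] [IsProper (Hs ↘ Spec (CommRingCat.of k))]
  (Z : HilbD.Obj (X ↘ Spec (CommRingCat.of k)) 2 (Over.mk (Hs ↘ Spec (CommRingCat.of k))))
  (hU : HilbD.IsUniversal (X ↘ Spec (CommRingCat.of k)) 2 (Over.mk (Hs ↘ Spec (CommRingCat.of k))) Z)

/-- The projection of the universal family to the surface. -/
noncomputable abbrev pX : Z.1.subscheme ⟶ X :=
  TautSh.famToX (X ↘ Spec (CommRingCat.of k)) (Over.mk (Hs ↘ Spec (CommRingCat.of k))) Z.1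

omit [CharZero k] in
include hdim Hl hHl hU in
theorem dim_image_le_two (I : X.IdealSheafData) (hI : topologicalKrullDim I.subscheme ≤ 0) :
    topologicalKrullDim (pH X Z '' (pX X Hs Z ⁻¹' (I.support : Set X)) : Set Hs) ≤ 2 := by
  obtain ⟨h1, h2, h3, h4, h5⟩ := pH_props X Z
  have hN : IsNoetherian X := Fga.SnapperTwist.isNoetherian_of_proper k X
  obtain ⟨hf, hc⟩ := finite_support I hI
  refine (dim_image_le (pH X Z) (pH X Z).isClosedMap _ (I.support.isClosed.preimage (pX X Hs Z).continuous)).trans ?_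
  refine dim_le_of_closed_cover _ (hf.toFinset.image fun x => pX X Hs Z ⁻¹' {x}) ?_ ?_ ?_
  · intro T hT
    obtain ⟨x, hx, rfl⟩ := Finset.mem_image.1 hT
    exact (hc x (hf.mem_toFinset.1 hx)).preimage (pX X Hs Z).continuous
  · intro T hT
    obtain ⟨x, hx, rfl⟩ := Finset.mem_image.1 hT
    exact K974.ThroughPt.dim_through_point k X hdim Hl hHl Hs Z hU x (hc x (hf.mem_toFinset.1 hx))
  · intro z hz
    exact ⟨pX X Hs Z ⁻¹' {pX X Hs Z z}, by
      rw [Finset.mem_coe]
      exact Finset.mem_image.2 ⟨pX X Hs Z z, hf.mem_toFinset.2 hz, rfl⟩, rfl⟩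

include hdim Hl hHl hU in
theorem stable_sub {Y : Scheme.{u}} (q : SymProd.fibPow (X ↘ Spec (CommRingCat.of k)) 2 ⟶ Y)
    (gY : Y ⟶ Spec (CommRingCat.of k)) (hY : SymProd.IsSymProd (X ↘ Spec (CommRingCat.of k)) 2 q gY)
    (ρ : Hs ⟶ Y)
    (hρ : TautSh.IsHilbChow (X ↘ Spec (CommRingCat.of k)) 2 (Over.mk (Hs ↘ Spec (CommRingCat.of k))) Z.1 q gY ρ)
    (L : X.Modules) (hL : PicF.IsInvertible L) (hLO : IsEmpty (L ≅ Coh.structureModule X))
    (I : X.IdealSheafData) (hI : topologicalKrullDim I.subscheme ≤ 0)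
    (M : Y.Modules) (hM : TautSh.IsSymPowLB (X ↘ Spec (CommRingCat.of k)) 2 q Hl M)
    (D' : Hs.Modules) (hD' : PicF.IsInvertible D') : ∃ N0 : ℕ, ∀ N : ℕ, N0 ≤ N →
      CohB1.IsAmple (CohB1.tensorMod (CohB1.tensorPow ((Scheme.Modules.pullback ρ).obj M) N) D') →
        ShStab.IsMuStable k Hs (CohB1.tensorMod (CohB1.tensorPow ((Scheme.Modules.pullback ρ).obj M) N) D')
          (TautSh.taut (X ↘ Spec (CommRingCat.of k)) (Over.mk (Hs ↘ Spec (CommRingCat.of k))) Z.1
            (CohB1.tensorMod L (ClSub.idealMod I))) 4 := by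
  obtain ⟨N0, hN0⟩ := stable X hdim Hl hHl q gY hY Hs Z hU ρ hρ L hL hLO M hM D' hD'
  refine ⟨N0, fun N hN hA => ?_⟩
  have hst := hN0 N hN hA
  obtain ⟨hInt, hHs, hreg⟩ := K341.Reg.regular_of_points k X hdim Hl hHl Hs 2 Z hU
  obtain ⟨h1, h2, h3, h4, h5⟩ := pH_props X Z
  have hNX : IsNoetherian X := Fga.SnapperTwist.isNoetherian_of_proper k X
  have hNH : IsNoetherian Hs := Fga.SnapperTwist.isNoetherian_of_proper k Hs
  have hNZ : IsLocallyNoetherian Z.1.subscheme := LocallyOfFiniteType.isLocallyNoetherian (pH X Z)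
  have hiI : Coh.IsCoh (ClSub.idealMod I) := by
    have := CohqA.IdealMod.mono_idealModι I
    exact Groth.Agent.PerfA.CohSerre.isCoh_of_mono (ClSub.idealModι I) (CohqA.IdealMod.isQCoh_idealMod I) K848.Stab.isCoh_structureModule
  have hcE : Coh.IsCoh ((Scheme.Modules.pushforward (pH X Z)).obj ((Scheme.Modules.pullback (pX X Hs Z)).obj
      (CohB1.tensorMod L (ClSub.idealMod I)))) :=
    Push.isCoh_push _ (FormalA.PullbackQC.isCoh_pullback _ _ (Fga.SnapperTwist.isCoh_tensor' hL hiI))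
  have hcE' : Coh.IsCoh ((Scheme.Modules.pushforward (pH X Z)).obj ((Scheme.Modules.pullback (pX X Hs Z)).obj L)) :=
    Push.isCoh_push _ (FormalA.PullbackQC.isCoh_pullback _ _ (isCoh_of_isInvertible hL))
  let W : X.Opens := ⟨(I.support : Set X)ᶜ, I.support.isClosed.isOpen_compl⟩
  have hj := isIso_restrict_tensIdealι hL I W (fun x hx => hx)
  let T : Set Hs := pH X Z '' (pX X Hs Z ⁻¹' (I.support : Set X))
  have hT : IsClosed T := (pH X Z).isClosedMap _ (I.support.isClosed.preimage (pX X Hs Z).continuous)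
  let V : Hs.Opens := ⟨Tᶜ, hT.isOpen_compl⟩
  have hV : ∀ z, pH X Z z ∈ V → pX X Hs Z z ∈ W := fun z hz hzI => hz ⟨z, hzI, rfl⟩
  have hk := support_kernel_push (pH X Z) (pX X Hs Z) _ W hj V hV
  have hc := support_cokernel_push (pH X Z) (pX X Hs Z) _ W hj V hV
  have hVT : (V : Set Hs)ᶜ = T := compl_compl T
  rw [hVT] at hk hc
  have hd := dim_image_le_two X hdim Hl hHl Hs Z hU I hI
  exact K254.MuMap.isMuStable_of_map k hA 2 hHs hcE hcE' ((Scheme.Modules.pushforward (pH X Z)).map
    ((Scheme.Modules.pullback (pX X Hs Z)).map (VarietyB.RestrSeq.tensIdealι L I)))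
    ((Fga.DimLt.topologicalKrullDim_mono hk).trans hd) ((Fga.DimLt.topologicalKrullDim_mono hc).trans hd) hst

end Stable

end K341.Sub
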