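import Groth.Agent.CohqA.FTStalk
import Groth.Agent.Divis.StalkMod

/-!
# Supports of direct images along affine morphisms
-/

set_option autoImplicit false
universe u

open CategoryTheory CategoryTheory.Limits AlgebraicGeometry TopologicalSpace Opposite

namespace K341.SuppPush

open Groth.Agent Groth.Agent.Divis.StalkMod

variable {Z H : Scheme.{u}} (p : Z ⟶ H)

/-- The image of a point of the support of a quasi-coherent module along an affine morphism. -/
theorem mem_support_push [IsAffineHom p] {M : Z.Modules} (hM : Coh.IsQCoh M) {z : Z} (hz : z ∈ CohB1.support M) :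
    p z ∈ CohB1.support ((Scheme.Modules.pushforward p).obj M) := by
  intro hsub
  apply hz
  obtain ⟨V, hV, hx⟩ := exists_affine (p z)
  have hU : IsAffineOpen (p ⁻¹ᵁ V) := hV.preimage p
  have key : ∀ s : Γ(M, p ⁻¹ᵁ V), M.presheaf.germ (p ⁻¹ᵁ V) z hx s = 0 := by
    intro s
    have h1 : ((Scheme.Modules.pushforward p).obj M).presheaf.germ V (p z) hx s =
        ((Scheme.Modules.pushforward p).obj M).presheaf.germ V (p z) hx 0 := Subsingleton.elim _ _
    obtain ⟨W, hW, i1, i2, h12⟩ := TopCat.Presheaf.germ_eq _ (p z) hx hx _ _ h1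
    rw [map_zero] at h12
    have h3 : M.presheaf.map (homOfLE (p.preimage_mono i1.le)).op s = 0 := h12
    rw [← TopCat.Presheaf.germ_res_apply M.presheaf (homOfLE (p.preimage_mono i1.le)) z hW s, h3, map_zero]
  refine stalk_elim M hM hU z hx ?_
  intro _ _ _ _ l hl _ hloc
  refine subsingleton_of_forall_eq 0 fun y => ?_
  obtain ⟨⟨s, t⟩, hst⟩ := IsLocalizedModule.surj (hU.primeIdealOf ⟨z, hx⟩).asIdeal.primeCompl l y
  rw [hl, key] at hst
  have h4 := IsLocalizedModule.map_units l t
  exact (Module.End.isUnit_iff _).1 h4 |>.1 (by rw [map_zero]; exact hst)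

end K341.SuppPush
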