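import Groth.Agent.TautSh.K341.Push
import Groth.Agent.TautSh.K341.SuppPush
import Groth.Agent.TautSh.K554.DblSplit
import Groth.Agent.TautSh.K396.AlphaSq
import Groth.Agent.TautSh.K396.AlphaBd
import Groth.Agent.VBCurve.K704.InvHom
import Groth.Agent.ShStab.K848.Hull2

/-!
# Slope stability of direct images of invertible modules along double covers
-/

set_option autoImplicit false
universe u

open CategoryTheory CategoryTheory.Limits AlgebraicGeometry TopologicalSpace Polynomial

namespace K341.Core

open Groth.Agent Groth.Agent.Fga.PicMon Groth.Agent.Fga.SnapperTwist Groth.Agent.Fdesc K848.Rank K848.Hull K848.Poly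
  K848.HB K848.TF K848.Dim K848.Stab ShStab StabCat K341.Push

theorem isFinLocFree_of_isInvertible {X : Scheme.{u}} {L : X.Modules} (hL : PicF.IsInvertible L) :
    FlatMod.IsFinLocFree L := by
  intro x
  obtain ⟨U, hU, h⟩ := Ega2.QCohLocal.isFinLocFreeOfRank_one_iff.mpr hL x
  exact ⟨U, 1, hU, h⟩

section Tensor

variable (k : Type u) [Field k] {H : Scheme.{u}} [H.Over (Spec (CommRingCat.of k))]
  [IsProper (H ↘ Spec (CommRingCat.of k))]

/-- Additivity of Hilbert polynomials for `G ⊗ (O ⊞ L)`. -/
theorem hp_tensor_biprod {A : H.Modules} (hA : PicF.IsInvertible A) {G L : H.Modules} (hG : PicF.IsInvertible G)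
    (hL : PicF.IsInvertible L) : hp k A (CohB1.tensorMod G (Coh.structureModule H ⊞ L)) =
      hp k A G + hp k A (CohB1.tensorMod G L) := by
  have := isNoetherian_of_proper k H
  have hS := (ShortComplex.Splitting.mk (S := ShortComplex.mk (biprod.inl : Coh.structureModule H ⟶ _ ⊞ L)
    biprod.snd (by simp)) biprod.fst biprod.inr (by simp) (by simp) (by simp)).shortExact
  have hc1 : Coh.IsCoh (Coh.structureModule H) := isCoh_structureModule
  have hc2 : Coh.IsCoh L := isCoh_of_isInvertible hL
  have hc3 : Coh.IsCoh (Coh.structureModule H ⊞ L) := by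
    exact Sga67.CohBasic.isCoh_biprod hc1 hc2
  have h1 := hp_add k hA (Fga.TwistCoh.shortExact_tensorBi hG _ hS) (isCoh_tensor' hG hc1) (isCoh_tensor' hG hc3)
    (isCoh_tensor' hG hc2)
  have h2 : hp k A (CohB1.tensorMod G (Coh.structureModule H)) = hp k A G :=
    (hp_iso k hA (isCoh_tensor' hG hc1) (Ega2.Tens.runit G)).symm
  rw [← h2]
  exact h1

end Tensor

theorem rk_push_unit {Z H : Scheme.{u}} [IsIntegral H] [IsLocallyNoetherian H] (p : Z ⟶ H)
    {L : H.Modules} (hL : PicF.IsInvertible L)
    (e : (Scheme.Modules.pushforward p).obj (Coh.structureModule Z) ≅ Coh.structureModule H ⊞ L) :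
    rk ((Scheme.Modules.pushforward p).obj (Coh.structureModule Z)) = 2 := by
  have hS := (ShortComplex.Splitting.mk (S := ShortComplex.mk (biprod.inl : Coh.structureModule H ⟶ _ ⊞ L)
    biprod.snd (by simp)) biprod.fst biprod.inr (by simp) (by simp) (by simp)).shortExact
  have h1 := rk_shortExact hS (Sga67.CohBasic.isCoh_biprod isCoh_structureModule (isCoh_of_isInvertible hL))
  rw [rk_iso e]
  refine h1.trans ?_
  rw [rk_structureModule]
  exact congrArg (1 + ·) (rk_structureModule_of_isInvertible hL)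

section Push

variable (k : Type u) [Field k] {Z H : Scheme.{u}} [Z.Over (Spec (CommRingCat.of k))]
  [H.Over (Spec (CommRingCat.of k))] [IsProper (Z ↘ Spec (CommRingCat.of k))]
  [IsProper (H ↘ Spec (CommRingCat.of k))] [IsIntegral H] [IsIntegral Z]
  (p : Z ⟶ H) [IsFinite p] [Surjective p]
  (hp' : p ≫ (H ↘ Spec (CommRingCat.of k)) = Z ↘ Spec (CommRingCat.of k))
  {L : H.Modules} (hL : PicF.IsInvertible L)
  (e : (Scheme.Modules.pushforward p).obj (Coh.structureModule Z) ≅ Coh.structureModule H ⊞ L)

include hL e in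
omit [IsIntegral H] [IsIntegral Z] [Surjective p] [Z.Over (Spec (CommRingCat.of k))]
  [IsProper (Z ↘ Spec (CommRingCat.of k))] in
/-- The Hilbert polynomial of `p_* p^* G`. -/
theorem hp_push_pull {A G : H.Modules} (hA : PicF.IsInvertible A) (hG : PicF.IsInvertible G) :
    hp k A ((Scheme.Modules.pushforward p).obj ((Scheme.Modules.pullback p).obj G)) =
      hp k A G + hp k A (CohB1.tensorMod G L) := by
  have := isNoetherian_of_proper k H
  have hb : VarietyB.TensCoh.HasBases G :=
    VarietyB.TensCoh.HasBases.of_isFinLocFreeOfRank (Ega2.QCohLocal.isFinLocFreeOfRank_one_iff.mpr hG)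
  rw [← hp_tensor_biprod k hA hG hL]
  have hc : Coh.IsCoh (Coh.structureModule H ⊞ L) :=
    Sga67.CohBasic.isCoh_biprod isCoh_structureModule (isCoh_of_isInvertible hL)
  exact hp_iso k hA (isCoh_tensor' hG hc) (Ega2.Tens.mapTIso (Iso.refl G) e.symm ≪≫ VarietyB.ProjForm.projIsoUnit p hb)

include hL e in
omit [IsIntegral H] [Surjective p] [Z.Over (Spec (CommRingCat.of k))]
  [IsProper (Z ↘ Spec (CommRingCat.of k))] in
theorem hp_push_eq {F : Z.Modules} (hF : PicF.IsInvertible F) {A G : H.Modules} (hA : PicF.IsInvertible A)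
    (hG : PicF.IsInvertible G) (u : (Scheme.Modules.pullback p).obj G ⟶ F) (hu : u ≠ 0) :
    hp k A ((Scheme.Modules.pushforward p).obj F) = hp k A G + hp k A (CohB1.tensorMod G L) +
      hp k A ((Scheme.Modules.pushforward p).obj (cokernel u)) := by
  have hG' : PicF.IsInvertible ((Scheme.Modules.pullback p).obj G) := Fdesc.LocGen.isInvertible_pullback p hG
  have : Mono u := K704.InvHom.mono_of_ne_zero hG' hF u hu
  have := isNoetherian_of_proper k H
  have hcF : Coh.IsCoh F := isCoh_of_isInvertible hF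
  have hcG : Coh.IsCoh ((Scheme.Modules.pullback p).obj G) := isCoh_of_isInvertible hG'
  have hcQ : Coh.IsCoh (cokernel u) := Groth.Agent.PerfA.CohSerre.isCoh_cokernel u hcG.1 hcF
  have hS : (ShortComplex.mk u (cokernel.π u) (cokernel.condition u)).ShortExact :=
    { exact := ShortComplex.exact_cokernel u, mono_f := inferInstance, epi_g := inferInstance }
  have h1 := hp_add k hA (Sga67.HomInvB.shortExact_push p hS hcF.1 hcQ.1) (isCoh_push p hcG) (isCoh_push p hcF)
    (isCoh_push p hcQ)
  rw [← hp_push_pull k p hL e hA hG]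
  exact h1

include hL e in
omit [Surjective p] [Z.Over (Spec (CommRingCat.of k))]
  [IsProper (Z ↘ Spec (CommRingCat.of k))] in
/-- The main identity. -/
theorem alpha_push {r : ℕ} (hdim : topologicalKrullDim H = (r + 1 : ℕ)) {F : Z.Modules} (hF : PicF.IsInvertible F)
    {A G : H.Modules} (hA : CohB1.IsAmple A) (hG : PicF.IsInvertible G)
    (m : CohB1.tensorMod L L ⟶ Coh.structureModule H) (hm : m ≠ 0)
    (u : (Scheme.Modules.pullback p).obj G ⟶ F) (hu : u ≠ 0) :
    2 * alpha r (hp k A ((Scheme.Modules.pushforward p).obj F)) = 4 * alpha r (hp k A G) -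
      alpha r (hp k A (cokernel m)) + 2 * alpha r (hp k A ((Scheme.Modules.pushforward p).obj (cokernel u))) := by
  have := isNoetherian_of_proper k H
  have hcm : Coh.IsCoh (cokernel m) := Groth.Agent.PerfA.CohSerre.isCoh_cokernel m
    (isCoh_tensor' hL (isCoh_of_isInvertible hL)).1 isCoh_structureModule
  have h1 := K396.Taut.alpha_square k r hdim A hA L hL m hm G hG _ _ _ (isHilbPoly_hp k hA.1 (isCoh_of_isInvertible hG))
    (isHilbPoly_hp k hA.1 (isCoh_tensor' hG (isCoh_of_isInvertible hL))) (isHilbPoly_hp k hA.1 hcm)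
  rw [hp_push_eq k p hL e hF hA.1 hG u hu, alpha_add, alpha_add]
  linarith

include hp' hL e in
/-- Slope stability of a direct image in terms of inequalities for the cokernels. -/
theorem isMuStable_push [Flat p] (hreg : ∀ x : H, IsRegularLocalRing (H.presheaf.stalk x))
    {r : ℕ} (hdim : topologicalKrullDim H = (r + 1 : ℕ)) {F : Z.Modules} (hF : PicF.IsInvertible F)
    {A : H.Modules} (hA : CohB1.IsAmple A) (m : CohB1.tensorMod L L ⟶ Coh.structureModule H) (hm : m ≠ 0)
    (hine : ∀ (G : H.Modules) (_ : PicF.IsInvertible G) (u : (Scheme.Modules.pullback p).obj G ⟶ F), u ≠ 0 →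
      alpha r (hp k A (cokernel m)) < 2 * alpha r (hp k A ((Scheme.Modules.pushforward p).obj (cokernel u)))) :
    IsMuStable k H A ((Scheme.Modules.pushforward p).obj F) (r + 1) := by
  have := isNoetherian_of_proper k H
  have hcF : Coh.IsCoh F := isCoh_of_isInvertible hF
  have hlF : FlatMod.IsFinLocFree F := isFinLocFree_of_isInvertible hF
  have hlE : FlatMod.IsFinLocFree ((Scheme.Modules.pushforward p).obj F) := isFinLocFree_push p hcF.1 hlF
  have hcE := isCoh_push p hcF
  have htE : TorSh.IsTorsionFree ((Scheme.Modules.pushforward p).obj F) := isTorsionFree_of_isFinLocFree hlE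
  have hrE : rk ((Scheme.Modules.pushforward p).obj F) = 2 := by
    rw [rk_push k p hp' hA hdim hcF, rk_push_unit p hL e, rk_structureModule_of_isInvertible hF]
  refine K848.PicOne.isMuStable_of k hA hdim hcE htE (by rw [hrE]; exact two_ne_zero) ?_
  intro F' ι hι hF' h0 h1
  rw [hrE] at h1 ⊢
  have hr1 : rk F' = 1 := by omega
  have htF' : TorSh.IsTorsionFree F' := isTorsionFree_of_mono ι htE
  obtain ⟨M, hM, φ, U, hφ, hU, hbij, -⟩ := K848.Hull.exists_hull hreg hF' htF' hr1
  have hn := isIntegrallyClosed_of_regular hreg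
  obtain ⟨ψ, hψ⟩ := K848.Hull2.exists_factor hn hU φ hbij hcE hlE ι
  have hcM : Coh.IsCoh M := isCoh_of_isInvertible hM
  have hle := alpha_pred_le k hA hdim φ hF' hcM (by rw [hr1, rk_structureModule_of_isInvertible hM])
  have hψ0 : ψ ≠ 0 := by
    rintro rfl
    rw [Limits.comp_zero] at hψ
    have h2 : IsZero F' := by
      rw [IsZero.iff_id_eq_zero]
      rw [← cancel_mono ι, Category.id_comp, Limits.zero_comp, ← hψ]
    have h3 : rk F' = 0 := by
      rw [rk_eq_zero_iff hF']
      intro h4
      exact h4 ((VarietyB.ExactLoc.isZero_iff_stalk _).1 h2 _)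
    omega
  have hu0 : ((Scheme.Modules.pullbackPushforwardAdjunction p).homEquiv M F).symm ψ ≠ 0 := by
    intro h2
    apply hψ0
    have h3 := congrArg ((Scheme.Modules.pullbackPushforwardAdjunction p).homEquiv M F) h2
    rw [Equiv.apply_symm_apply] at h3
    rw [h3, Adjunction.homEquiv_unit, Functor.map_zero, Limits.comp_zero]
  have h5 := alpha_push k p hL e hdim hF hA hM m hm _ hu0
  have h6 := hine M hM _ hu0
  rw [hr1]
  simp only [Nat.add_sub_cancel] at hle ⊢
  push_cast
  linarith

end Push

end K341.Core
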