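import Groth.Agent.TautSh.K341.Pts

/-!
# The classifying morphism of the complement of the diagonal with its sections and the swap
-/

set_option autoImplicit false
set_option backward.isDefEq.respectTransparency false
universe u

open CategoryTheory CategoryTheory.Limits AlgebraicGeometry

namespace K341.Pts

open K992.FibPow K992.BigDiag Groth.Agent.Picfga.HilbPull Groth.Agent.Picfga.HilbTriple
  Groth.Agent.Picfga.SecGraph

variable {X S : Scheme.{u}} (f : X ⟶ S) [IsSeparated f]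

omit [IsSeparated f] in
theorem swap_pr (l : Fin 2) : SymProd.permHom f 2 (Equiv.swap 0 1) ≫ pr f l = pr f (Equiv.swap 0 1 l) := by
  rw [pr, pr, SymProd.permHom_π, swap_symm_apply]

/-- The classifying morphism is invariant under the swap. -/
theorem swap_class {H : Over S} (Z : HilbD.Obj f 2 H) (hU : HilbD.IsUniversal f 2 H Z) {T : Over S}
    (a : T.left ⟶ SymProd.fibPow f 2) (ha : a ≫ base f 2 = T.hom) (hV : ∀ t, a t ∉ bigDiag f 1)
    (c : T ⟶ H) (hc : HilbD.pull f c Z.1 = TautSh.graphsIdeal f 2 T (fun i => a ≫ pr f i) (hxa f a ha))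
    (W : T ⟶ T) (hW : W.left ≫ a = a ≫ SymProd.permHom f 2 (Equiv.swap 0 1)) : W ≫ c = c := by
  have hd : ∀ i j : Fin 2, i ≠ j → HilbD.secGraph f T (a ≫ pr f i) (hxa f a ha i) ⊔
      HilbD.secGraph f T (a ≫ pr f j) (hxa f a ha j) = ⊤ := fun i j hij =>
    secGraph_sup f (fun i => a ≫ pr f i) (hxa f a ha) (disjoint_sec f a ha hV hij)
  have hx : ∀ i : Fin 2, W.left ≫ a ≫ pr f i = a ≫ pr f (Equiv.swap 0 1 i) := fun i => by
    rw [← Category.assoc, hW, Category.assoc, swap_pr]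
  have e0 : HilbD.secGraph f T (W.left ≫ a ≫ pr f 0) (hx_comp f _ W (hxa f a ha 0)) =
      HilbD.secGraph f T (a ≫ pr f 1) (hxa f a ha 1) := secGraph_congr f (hx 0) _ _
  have e1 : HilbD.secGraph f T (W.left ≫ a ≫ pr f 1) (hx_comp f _ W (hxa f a ha 1)) =
      HilbD.secGraph f T (a ≫ pr f 0) (hxa f a ha 0) := secGraph_congr f (hx 1) _ _
  have h1 := pull_graphsIdeal f W (fun i => a ≫ pr f i) (hxa f a ha) (hd 0 1 (by decide))
    (by rw [e0, e1]; exact hd 1 0 (by decide))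
  have h2 : TautSh.graphsIdeal f 2 T (fun i => W.left ≫ a ≫ pr f i) (fun i => hx_comp f _ W (hxa f a ha i)) =
      TautSh.graphsIdeal f 2 T (fun i => a ≫ pr f i) (hxa f a ha) := by
    rw [graphsIdeal_two, graphsIdeal_two, e0, e1, inf_comm]
  have h3 : HilbD.pull f (W ≫ c) Z.1 = HilbD.pull f c Z.1 := by
    rw [pull_comp, hc, h1, h2]
  obtain ⟨g, -, hg⟩ := hU T (pairObj f (fun i => a ≫ pr f i) (hxa f a ha)
    (disjoint_sec f a ha hV (i := 0) (j := 1) (by decide)))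
  have h4 := pairObj_val f (fun i => a ≫ pr f i) (hxa f a ha)
    (disjoint_sec f a ha hV (i := 0) (j := 1) (by decide))
  exact (hg (W ≫ c) ((h3.trans hc).trans h4.symm)).trans (hg c (hc.trans h4.symm)).symm

/-- The data attached to a swap-stable open in the complement of the diagonal. -/
structure Data {H : Over S} (Z : HilbD.Obj f 2 H) (U : (SymProd.fibPow f 2).Opens) where
  /-- the classifying morphism -/
  c : (U : Scheme.{u}) ⟶ H.left
  /-- the two sections -/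
  s : Fin 2 → ((U : Scheme.{u}) ⟶ Z.1.subscheme)
  /-- the swap -/
  w : (U : Scheme.{u}) ⟶ (U : Scheme.{u})
  c_over : c ≫ H.hom = U.ι ≫ base f 2
  s_toH : ∀ i, s i ≫ TautSh.famToH f H Z.1 = c
  s_toX : ∀ i, s i ≫ TautSh.famToX f H Z.1 = U.ι ≫ pr f i
  isPullback : IsPullback (coprod.desc (s 0) (s 1)) (coprod.desc (𝟙 _) (𝟙 _)) (TautSh.famToH f H Z.1) c
  w_ι : w ≫ U.ι = U.ι ≫ SymProd.permHom f 2 (Equiv.swap 0 1)
  w_c : w ≫ c = c
  w_s0 : w ≫ s 0 = s 1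
  w_s1 : w ≫ s 1 = s 0
  c_ρ : ∀ {Y : Scheme.{u}} (q : SymProd.fibPow f 2 ⟶ Y) (gY : Y ⟶ S) (ρ : H.left ⟶ Y),
    TautSh.IsHilbChow f 2 H Z.1 q gY ρ → c ≫ ρ = U.ι ≫ q

theorem c_ρ_of {H : Over S} (Z : HilbD.Obj f 2 H) (U : (SymProd.fibPow f 2).Opens)
    (hV : ∀ t : (U : Scheme.{u}), U.ι t ∉ bigDiag f 1) (c : (Over.mk (U.ι ≫ base f 2) : Over S) ⟶ H)
    (hc : HilbD.pull f c Z.1 = TautSh.graphsIdeal f 2 (Over.mk (U.ι ≫ base f 2)) (fun i => U.ι ≫ pr f i)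
      (hxa f (T := Over.mk (U.ι ≫ base f 2)) U.ι rfl))
    {Y : Scheme.{u}} (q : SymProd.fibPow f 2 ⟶ Y) (gY : Y ⟶ S) (ρ : H.left ⟶ Y)
    (hρ : TautSh.IsHilbChow f 2 H Z.1 q gY ρ) : c.left ≫ ρ = U.ι ≫ q := by
  have h4 := hρ.2 (Over.mk (U.ι ≫ base f 2)) (fun i => U.ι ≫ pr f i) (hxa f (T := Over.mk (U.ι ≫ base f 2)) U.ι rfl)
    (disjointSections f _ _ (disjoint_sec f (T := Over.mk (U.ι ≫ base f 2)) U.ι rfl hV (i := 0) (j := 1) (by decide))) c hc
  rw [h4]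
  congr 1
  apply hom_ext_pos
  intro i
  exact lift_pr f _ _ _ i

theorem nonempty_data {H : Over S} (Z : HilbD.Obj f 2 H) (hU : HilbD.IsUniversal f 2 H Z)
    (U : (SymProd.fibPow f 2).Opens)
    (hUd : ∀ t ∈ U, t ∉ bigDiag f 1) (hUs : ∀ t ∈ U, SymProd.permHom f 2 (Equiv.swap 0 1) t ∈ U) :
    Nonempty (Data f Z U) := by
  have hV : ∀ t : (U : Scheme.{u}), U.ι t ∉ bigDiag f 1 := fun t => hUd _ t.2
  obtain ⟨c, s, hc, h1, h2, h3⟩ := exists_onV f Z hU (T := Over.mk (U.ι ≫ base f 2)) U.ι rfl hV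
  obtain ⟨w, hw⟩ := exists_swap f U hUs
  have hw' : w ≫ (U.ι ≫ base f 2) = U.ι ≫ base f 2 := by
    rw [← Category.assoc, hw, Category.assoc, SymProd.permHom_base]
  have hwc' := swap_class f Z hU (T := Over.mk (U.ι ≫ base f 2)) U.ι rfl hV c hc
    (Over.homMk w hw' : (Over.mk (U.ι ≫ base f 2) : Over S) ⟶ Over.mk (U.ι ≫ base f 2)) hw
  have hwc : w ≫ c.left = c.left := congrArg CommaMorphism.left hwc'
  have hs : ∀ i, w ≫ s i = s (Equiv.swap 0 1 i) := fun i => by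
    apply fam_ext f Z
    · rw [Category.assoc, h1, h1, hwc]
    · rw [Category.assoc, h2, h2, ← Category.assoc, hw, Category.assoc, swap_pr]
  exact ⟨⟨c.left, s, w, Over.w c, h1, h2, h3, hw, hwc, hs 0, hs 1,
    fun q gY ρ hρ => c_ρ_of f Z U hV c hc q gY ρ hρ⟩⟩

end K341.Pts
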