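import Groth.Agent.TautSh.K341.Data
import Groth.Agent.TautSh.K639.SymFacts
import Groth.Agent.TautSh.K974.RangeEq
import Groth.Agent.TautSh.K554.DblSplit
import Groth.Agent.SymProd.K992.DimPow
import Groth.Agent.S1582

/-!
# The square of a surface, closed points and the complement of the diagonal
-/

set_option autoImplicit false
set_option backward.isDefEq.respectTransparency false
universe u

open CategoryTheory CategoryTheory.Limits AlgebraicGeometry TopologicalSpace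

namespace K341.Geo

open K992.FibPow K992.BigDiag K341.Pts

section Two

variable {k : Type u} [Field k] [IsAlgClosed k] {X : Scheme.{u}} (f : X ⟶ Spec (CommRingCat.of k))
  [Smooth f] [IsProper f] [AlgebraicGeometry.IsIntegral X]

omit [IsAlgClosed k] [Smooth f] [AlgebraicGeometry.IsIntegral X] in
theorem proper_two : IsProper (base f 2) :=
  base_of f @IsProper (fun _ _ => inferInstance) inferInstance 2

omit [Smooth f] in
theorem isIntegral_two : AlgebraicGeometry.IsIntegral (SymProd.fibPow f 2) := by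
  have h := Groth.Agent.S1582.result k X X f f
  obtain ⟨z⟩ : Nonempty (pullback f f : Scheme.{u}) := inferInstance
  have : Nonempty (SymProd.fibPow f 2) := ⟨(K639.SymFacts.isPullback_two f).isoPullback.inv z⟩
  exact isIntegral_of_isOpenImmersion (K639.SymFacts.isPullback_two f).isoPullback.hom

omit [IsProper f] in
theorem smooth_two (d : ℕ) (hd : topologicalKrullDim X = d) : SmoothOfRelativeDimension (2 * d) (base f 2) := by
  have := K992.DimPow.smoothOfRelativeDimension f d hd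
  exact K992.DimPow.smoothOfRelativeDimension_base f d 2

omit [IsProper f] in
theorem regular_two (d : ℕ) (hd : topologicalKrullDim X = d) (x : SymProd.fibPow f 2) :
    IsRegularLocalRing ((SymProd.fibPow f 2).presheaf.stalk x) := by
  have := smooth_two f d hd
  have : Smooth (base f 2) := SmoothOfRelativeDimension.smooth (2 * d) _
  exact Groth.Agent.Lefpen.H705.ClosedPoint.isRegularLocalRing_stalk (base f 2) x

omit [IsProper f] in
theorem dim_open (d : ℕ) (hd : topologicalKrullDim X = d) (U : (SymProd.fibPow f 2).Opens) (x : SymProd.fibPow f 2)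
    (hx : x ∈ U) : topologicalKrullDim (U : Scheme.{u}) = (2 * d : ℕ) := by
  have := smooth_two f d hd
  have h : SmoothOfRelativeDimension (0 + 2 * d) (U.ι ≫ base f 2) := inferInstance
  rw [zero_add] at h
  rw [Groth.Agent.VarietyB.DimTop.topologicalKrullDim_eq_iSup_localDim]
  apply le_antisymm
  · exact iSup_le fun z => (Groth.Agent.UnramA.SmoothFibreDim.localDim_eq (2 * d) (U.ι ≫ base f 2) z).le
  · refine le_iSup_of_le (⟨x, hx⟩ : (U : Scheme.{u})) ?_
    exact (Groth.Agent.UnramA.SmoothFibreDim.localDim_eq (2 * d) (U.ι ≫ base f 2) _).ge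

omit [Smooth f] [AlgebraicGeometry.IsIntegral X] in
/-- The two components of a closed point off the diagonal are different. -/
theorem pr_ne {v : SymProd.fibPow f 2} (hv : IsClosed ({v} : Set (SymProd.fibPow f 2))) (h : v ∉ bigDiag f 1) :
    pr f 0 v ≠ pr f 1 v := by
  intro h0
  have := proper_two f
  set p := pointOfClosedPoint (base f 2) v hv with hp
  have h1 : p ≫ base f 2 = 𝟙 _ := pointOfClosedPoint_comp _ _ _
  have h2 : ∀ i : Fin 2, (p ≫ pr f i) ≫ f = 𝟙 _ := fun i => by rw [Category.assoc, pr_comp, h1]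
  have h3 : ∀ i : Fin 2, ∀ a, (p ≫ pr f i) a = pr f i v := fun i a => by
    rw [Scheme.Hom.comp_apply, hp, pointOfClosedPoint_apply]
  have h4 : p ≫ pr f 0 = p ≫ pr f 1 := by
    have h5 : (⟨p ≫ pr f 0, h2 0⟩ : {p : Spec (CommRingCat.of k) ⟶ X // p ≫ f = 𝟙 _}) = ⟨p ≫ pr f 1, h2 1⟩ := by
      apply (pointEquivClosedPoint f).injective
      apply Subtype.ext
      exact (h3 0 _).trans (h0.trans (h3 1 _).symm)
    exact congrArg Subtype.val h5
  have h6 := mem_of_eq f (i := 0) (j := 1) (by decide) p h4 (IsLocalRing.closedPoint k)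
  rw [hp, pointOfClosedPoint_apply] at h6
  exact h h6

end Two

section Main

variable {k : Type u} [Field k] [IsAlgClosed k] {X : Scheme.{u}} (f : X ⟶ Spec (CommRingCat.of k))
  [Smooth f] [IsProper f] [AlgebraicGeometry.IsIntegral X] (hdim : topologicalKrullDim X = 2)
  {Y : Scheme.{u}} (q : SymProd.fibPow f 2 ⟶ Y) (gY : Y ⟶ Spec (CommRingCat.of k))
  (hY : SymProd.IsSymProd f 2 q gY)

/-- The complement of the discriminant in the symmetric square. -/
def Wo [IsFinite q] : Y.Opens := ⟨(q '' bigDiag f 1)ᶜ, (q.isClosedMap _ (isClosed_bigDiag f 1)).isOpen_compl⟩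

omit [Smooth f] [IsAlgClosed k] [AlgebraicGeometry.IsIntegral X] in
include hY in
theorem mem_preimage_Wo [IsFinite q] {x : SymProd.fibPow f 2} : x ∈ q ⁻¹ᵁ Wo f q ↔ x ∉ bigDiag f 1 := by
  have h := (K639.SymFacts.quot_facts_gen f 1 q gY hY).2.2.2
  have h1 : x ∈ q ⁻¹' (q '' bigDiag f 1) ↔ x ∈ bigDiag f 1 := by rw [h]
  exact not_congr h1

include hdim in
theorem exists_notMem_bigDiag : ∃ x : SymProd.fibPow f 2, x ∉ bigDiag f 1 := by
  have := isIntegral_two f
  refine ⟨genericPoint (SymProd.fibPow f 2), fun h => ?_⟩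
  have := K992.DimPow.smoothOfRelativeDimension f 2 hdim
  have h1 := K992.DimPow.le_ringKrullDim_of_mem_bigDiag f 2 1 _ h
  have h2 : ringKrullDim ((SymProd.fibPow f 2).functionField) = 0 := ringKrullDim_eq_zero_of_field _
  have h3 : ((2 : ℕ) : WithBot ℕ∞) ≤ 0 := h1.trans h2.le
  exact absurd h3 (by decide)

omit [IsAlgClosed k] [Smooth f] [AlgebraicGeometry.IsIntegral X] in
/-- A closed point of the square in a nonempty closed subset of an open. -/
theorem exists_closedPoint (U : (SymProd.fibPow f 2).Opens) (T : Set (U : Scheme.{u})) (hT : IsClosed T)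
    (hne : T.Nonempty) : ∃ v ∈ T, IsClosed ({U.ι v} : Set (SymProd.fibPow f 2)) := by
  have := proper_two f
  have : JacobsonSpace (SymProd.fibPow f 2) := LocallyOfFiniteType.jacobsonSpace (base f 2)
  obtain ⟨_, ⟨v, hv, rfl⟩, h2⟩ := nonempty_inter_closedPoints (hne.image U.ι)
    (hT.isLocallyClosed.image U.ι.isOpenEmbedding.isInducing U.ι.isOpenEmbedding.isOpen_range.isLocallyClosed)
  exact ⟨v, hv, h2⟩

end Main

section Hilb

variable {k : Type u} [Field k] [IsAlgClosed k] {X : Scheme.{u}} (f : X ⟶ Spec (CommRingCat.of k))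
  [Smooth f] [IsProper f] [AlgebraicGeometry.IsIntegral X] (hdim : topologicalKrullDim X = 2)
  {Y : Scheme.{u}} (q : SymProd.fibPow f 2 ⟶ Y) (gY : Y ⟶ Spec (CommRingCat.of k))
  (hY : SymProd.IsSymProd f 2 q gY)
  {Hs : Scheme.{u}} [Hs.Over (Spec (CommRingCat.of k))] [IsProper (Hs ↘ Spec (CommRingCat.of k))]
  [AlgebraicGeometry.IsIntegral Hs] (hHs : topologicalKrullDim Hs = 4)
  (Z : HilbD.Obj f 2 (Over.mk (Hs ↘ Spec (CommRingCat.of k))))
  (ρ : Hs ⟶ Y) (hρ : TautSh.IsHilbChow f 2 (Over.mk (Hs ↘ Spec (CommRingCat.of k))) Z.1 q gY ρ)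

include hdim hY hHs hρ in
theorem range_c [IsFinite q] (D : Data f Z (q ⁻¹ᵁ Wo f q)) :
    Set.range D.c = ρ ⁻¹' (Wo f q : Set Y) ∧ IsFinite (ρ ∣_ Wo f q) := by
  have := (K639.SymFacts.quot_facts_gen f 1 q gY hY).1
  obtain ⟨x, hx⟩ := exists_notMem_bigDiag f hdim
  exact K974.TautSh.range_eq k gY ρ hρ.1 q (Wo f q) D.c (D.c_ρ q gY ρ hρ) 4 hHs
    (dim_open f 2 hdim (q ⁻¹ᵁ Wo f q) x ((mem_preimage_Wo f q gY hY).2 hx))

omit [Smooth f] [AlgebraicGeometry.IsIntegral X] [AlgebraicGeometry.IsIntegral Hs] [IsProper (Hs ↘ Spec (CommRingCat.of k))] in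
include hY in
theorem s_ne [IsFinite q] (D : Data f Z (q ⁻¹ᵁ Wo f q)) (v : ((q ⁻¹ᵁ Wo f q : (SymProd.fibPow f 2).Opens) : Scheme.{u}))
    (hv : IsClosed ({(q ⁻¹ᵁ Wo f q).ι v} : Set (SymProd.fibPow f 2))) : D.s 0 v ≠ D.s 1 v := by
  intro h
  apply pr_ne f hv ((mem_preimage_Wo f q gY hY).1 v.2)
  have h0 := congrArg (fun φ => φ v) (D.s_toX 0)
  have h1 := congrArg (fun φ => φ v) (D.s_toX 1)
  simp only [Scheme.Hom.comp_apply] at h0 h1
  rw [← h0, ← h1, h]

omit [Smooth f] [AlgebraicGeometry.IsIntegral X] [AlgebraicGeometry.IsIntegral Hs] [IsProper (Hs ↘ Spec (CommRingCat.of k))] [IsAlgClosed k] in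
theorem p_s [IsFinite q] (D : Data f Z (q ⁻¹ᵁ Wo f q)) (i : Fin 2)
    (v : ((q ⁻¹ᵁ Wo f q : (SymProd.fibPow f 2).Opens) : Scheme.{u})) :
    TautSh.famToH f _ Z.1 (D.s i v) = D.c v := by
  have h0 := congrArg (fun φ => φ v) (D.s_toH i)
  rwa [Scheme.Hom.comp_apply] at h0

include hY in
theorem exists_pair [IsFinite q] (D : Data f Z (q ⁻¹ᵁ Wo f q)) (T : Set Hs) (hT : IsClosed T)
    (h : ∃ v, D.c v ∈ T) : ∃ z z', z ≠ z' ∧ TautSh.famToH f _ Z.1 z = TautSh.famToH f _ Z.1 z' ∧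
      TautSh.famToH f _ Z.1 z ∈ T := by
  obtain ⟨v, hv, hvc⟩ := exists_closedPoint f (q ⁻¹ᵁ Wo f q) (D.c ⁻¹' T) (hT.preimage D.c.continuous) h
  refine ⟨D.s 0 v, D.s 1 v, s_ne f q gY hY Z D v hvc, ?_, ?_⟩
  · rw [p_s, p_s]
  · rw [p_s]
    exact hv

omit [IsAlgClosed k] in
theorem isUnit_two [CharZero k] {S : Scheme.{u}} (g : S ⟶ Spec (CommRingCat.of k)) : IsUnit (2 : Γ(S, ⊤)) := by
  let φ : k →+* Γ(S, ⊤) := ((Scheme.ΓSpecIso (CommRingCat.of k)).inv ≫ g.appTop).hom
  have h := (IsUnit.mk0 (2 : k) two_ne_zero).map φ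
  rwa [map_ofNat] at h

include hdim hHs hY hρ in
/-- The universal family is integral. -/
theorem isIntegral_fam [CharZero k] [IsFinite q] (D : Data f Z (q ⁻¹ᵁ Wo f q)) :
    AlgebraicGeometry.IsIntegral Z.1.subscheme := by
  obtain ⟨hr, -⟩ := range_c f hdim q gY hY hHs Z ρ hρ D
  obtain ⟨⟨h1, h2, h3⟩, h4⟩ := Z.2
  have hU := isIntegral_two f
  obtain ⟨x, hx⟩ := exists_notMem_bigDiag f hdim
  let v : ((q ⁻¹ᵁ Wo f q : (SymProd.fibPow f 2).Opens) : Scheme.{u}) := ⟨x, (mem_preimage_Wo f q gY hY).2 hx⟩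
  have hI : AlgebraicGeometry.IsIntegral (Over.mk (Hs ↘ Spec (CommRingCat.of k))).left :=
    inferInstanceAs (AlgebraicGeometry.IsIntegral Hs)
  have hv : Nonempty ((q ⁻¹ᵁ Wo f q : (SymProd.fibPow f 2).Opens) : Scheme.{u}) := ⟨v⟩
  have hi : IrreducibleSpace ((q ⁻¹ᵁ Wo f q : (SymProd.fibPow f 2).Opens) : Scheme.{u}) := inferInstance
  obtain ⟨z, z', hz, hzz, -⟩ := exists_pair f q gY hY Z D Set.univ isClosed_univ ⟨v, trivial⟩
  refine K554.DblSplit.isIntegral_dbl (Z.1.subschemeι ≫ PicF.XTproj f _) h4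
    (isUnit_two (k := k) (Hs ↘ Spec (CommRingCat.of k))) (D.s 0) (ρ ⁻¹ᵁ Wo f q) ?_ ?_ z z' hz hzz
  · refine ⟨D.c v, ?_⟩
    have : D.c v ∈ Set.range D.c := ⟨v, rfl⟩
    rwa [hr] at this
  · intro w hw
    have hw1 : TautSh.famToH f _ Z.1 w ∈ Set.range D.c := by
      rw [hr]
      exact hw
    obtain ⟨t, ht⟩ := hw1
    rcases eq_or_of_isPullback f Z D.isPullback w t ht.symm with h | h
    · exact ⟨t, h.symm⟩
    · refine ⟨D.w t, ?_⟩
      rw [h, ← D.w_s0, Scheme.Hom.comp_apply]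

end Hilb

end K341.Geo
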