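import Groth.Agent.TautSh.K341.Core
import Groth.Agent.TautSh.K341.Geo
import Groth.Agent.TautSh.K166.Hart

/-!
# The main geometric step for direct images of invertible modules along the universal family

If `F` is an invertible module on the surface `X` which is not trivial and `u : p^* G ⟶ σ^* F` is a nonzero morphism,
then the support of `p_* coker u` contains a point of codimension one over the complement of the discriminant.
-/

set_option autoImplicit false
set_option backward.isDefEq.respectTransparency false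
universe u

open CategoryTheory CategoryTheory.Limits AlgebraicGeometry TopologicalSpace

namespace K341.Key

open Groth.Agent Groth.Agent.Divis.StalkMod K992.FibPow K992.BigDiag K341.Pts K341.Geo K848.Rank K848.Hull K848.Dim ShStab

theorem dim_closure_le_of_qf {P Y : Scheme.{u}} (q : P ⟶ Y) [LocallyQuasiFinite q] (x : P) :
    topologicalKrullDim (closure {x} : Set P) ≤ topologicalKrullDim (closure {q x} : Set Y) := by
  have hmap : ∀ y ∈ closure ({x} : Set P), q y ∈ closure ({q x} : Set Y) := fun y hy => by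
    have h1 : x ⤳ y := specializes_iff_mem_closure.2 hy
    exact specializes_iff_mem_closure.1 (h1.map q.continuous)
  have : QuasiSober (closure {x} : Set P) := isClosed_closure.isClosedEmbedding_subtypeVal.quasiSober
  refine K618.TopDim.dim_le_of_fibres (fun y : (closure {x} : Set P) => (⟨q y.1, hmap y.1 y.2⟩ : (closure {q x} : Set Y)))
    (Continuous.subtype_mk (q.continuous.comp continuous_subtype_val) _) ?_
  intro y z h he
  have h1 : y.1 ⤳ z.1 := h.map continuous_subtype_val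
  have h2 : q y.1 = q z.1 := congrArg Subtype.val he
  exact Subtype.ext (K618.Sch.eq_of_specializes_of_eq q h1 h2)

theorem dim_closure_le_of_closed {P Y : Scheme.{u}} (q : P ⟶ Y) (hq : IsClosedMap q) (x : P) :
    topologicalKrullDim (closure {q x} : Set Y) ≤ topologicalKrullDim (closure {x} : Set P) := by
  have himg : q '' closure {x} = closure {q x} := by
    rw [← Set.image_singleton, hq.closure_image_eq_of_continuous q.continuous]
  have hmap : ∀ y ∈ closure ({x} : Set P), q y ∈ closure ({q x} : Set Y) := fun y hy => by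
    rw [← himg]
    exact ⟨y, hy, rfl⟩
  have : QuasiSober (closure {x} : Set P) := isClosed_closure.isClosedEmbedding_subtypeVal.quasiSober
  have : QuasiSober (closure {q x} : Set Y) := isClosed_closure.isClosedEmbedding_subtypeVal.quasiSober
  refine K639.SymFacts.dim_le_of_closed
    (fun y : (closure {x} : Set P) => (⟨q y.1, hmap y.1 y.2⟩ : (closure {q x} : Set Y)))
    (Continuous.subtype_mk (q.continuous.comp continuous_subtype_val) _) ?_ ?_
  · intro T hT
    have h1 : IsClosed (q '' (Subtype.val '' T)) := hq _ (isClosed_closure.isClosedMap_subtype_val _ hT)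
    have h2 : (fun y : (closure {x} : Set P) => (⟨q y.1, hmap y.1 y.2⟩ : (closure {q x} : Set Y))) '' T =
        Subtype.val ⁻¹' (q '' (Subtype.val '' T)) := by
      ext z
      constructor
      · rintro ⟨y, hy, rfl⟩
        exact ⟨y.1, ⟨y, hy, rfl⟩, rfl⟩
      · rintro ⟨_, ⟨y, hy, rfl⟩, h⟩
        exact ⟨y, hy, Subtype.ext h⟩
    rw [h2]
    exact h1.preimage continuous_subtype_val
  · rintro ⟨z, hz⟩
    rw [← himg] at hz
    obtain ⟨y, hy, rfl⟩ := hz
    exact ⟨⟨y, hy⟩, rfl⟩

/-- The pull-back of a morphism which is an isomorphism near the image is an isomorphism. -/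
theorem isIso_pullback_of_range {Z T : Scheme.{u}} (s : T ⟶ Z) {A B : Z.Modules} (u : A ⟶ B) (W : Z.Opens)
    (h : IsIso ((Scheme.Modules.restrictFunctor W.ι).map u)) (hs : ∀ t, s t ∈ W) :
    IsIso ((Scheme.Modules.pullback s).map u) := by
  have h1 : IsIso ((Scheme.Modules.pullback W.ι).map u) :=
    (NatIso.isIso_map_iff (Scheme.Modules.restrictFunctorIsoPullback W.ι) u).1 h
  have hr : Set.range s ⊆ Set.range W.ι := by
    rintro _ ⟨t, rfl⟩
    rw [Scheme.Opens.range_ι]
    exact hs t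
  have h2 : IsIso ((Scheme.Modules.pullback W.ι ⋙ Scheme.Modules.pullback (IsOpenImmersion.lift W.ι s hr)).map u) :=
    inferInstanceAs (IsIso ((Scheme.Modules.pullback (IsOpenImmersion.lift W.ι s hr)).map ((Scheme.Modules.pullback W.ι).map u)))
  have h3 := (NatIso.isIso_map_iff (Scheme.Modules.pullbackComp (IsOpenImmersion.lift W.ι s hr) W.ι ≪≫
    Scheme.Modules.pullbackCongr (IsOpenImmersion.lift_fac W.ι s hr)) u).1 h2
  exact h3

theorem rk_cokernel {Z : Scheme.{u}} [IsIntegral Z] [IsLocallyNoetherian Z] {A B : Z.Modules}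
    (hA : PicF.IsInvertible A) (hB : PicF.IsInvertible B) (u : A ⟶ B) (hu : u ≠ 0) : rk (cokernel u) = 0 := by
  have : Mono u := K704.InvHom.mono_of_ne_zero hA hB u hu
  have hS : (ShortComplex.mk u (cokernel.π u) (cokernel.condition u)).ShortExact :=
    { exact := ShortComplex.exact_cokernel u, mono_f := inferInstance, epi_g := inferInstance }
  have h1 := rk_shortExact hS (isCoh_of_isInvertible hB)
  have h2 : rk B = 1 := rk_structureModule_of_isInvertible hB
  have h3 : rk A = 1 := rk_structureModule_of_isInvertible hA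
  have h4 : rk B = rk A + rk (cokernel u) := h1
  omega

theorem dim_support_le {H : Scheme.{u}} [IsIntegral H] [IsLocallyNoetherian H] {r : ℕ}
    (hdim : topologicalKrullDim H = (r + 1 : ℕ)) {Q : H.Modules} (hQ : Coh.IsCoh Q) (h : rk Q = 0) :
    topologicalKrullDim (CohB1.support Q) ≤ r := by
  have h1 := topologicalKrullDim_le_pred hdim (Ega3B.Devissage.isClosed_support hQ) ((rk_eq_zero_iff hQ).1 h)
  generalize topologicalKrullDim (CohB1.support Q) = a at h1
  induction a using WithBot.recBotCoe with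
  | bot => exact bot_le
  | coe a =>
    have h1' : a + 1 ≤ ((r + 1 : ℕ) : ℕ∞) := by exact_mod_cast h1
    have h2 : a ≤ (r : ℕ∞) := by
      rw [Nat.cast_add, Nat.cast_one] at h1'
      exact (ENat.add_le_add_iff_right (by simp)).1 h1'
    exact_mod_cast h2

section Main

variable {k : Type u} [Field k] [IsAlgClosed k] (X : Scheme.{u}) [X.Over (Spec (CommRingCat.of k))]
  [Smooth (X ↘ Spec (CommRingCat.of k))] [IsProper (X ↘ Spec (CommRingCat.of k))] [AlgebraicGeometry.IsIntegral X]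
  (hdim : topologicalKrullDim X = 2)
  {Y : Scheme.{u}} (q : SymProd.fibPow (X ↘ Spec (CommRingCat.of k)) 2 ⟶ Y) [IsFinite q]
  (gY : Y ⟶ Spec (CommRingCat.of k)) (hY : SymProd.IsSymProd (X ↘ Spec (CommRingCat.of k)) 2 q gY)
  {Hs : Scheme.{u}} [Hs.Over (Spec (CommRingCat.of k))] [IsProper (Hs ↘ Spec (CommRingCat.of k))]
  [AlgebraicGeometry.IsIntegral Hs] (hHs : topologicalKrullDim Hs = 4)
  (Z : HilbD.Obj (X ↘ Spec (CommRingCat.of k)) 2 (Over.mk (Hs ↘ Spec (CommRingCat.of k))))
  (ρ : Hs ⟶ Y) (hρ : TautSh.IsHilbChow (X ↘ Spec (CommRingCat.of k)) 2 (Over.mk (Hs ↘ Spec (CommRingCat.of k))) Z.1 q gY ρ)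
  (D : Data (X ↘ Spec (CommRingCat.of k)) Z (q ⁻¹ᵁ Wo (X ↘ Spec (CommRingCat.of k)) q))

omit [IsProper (X ↘ Spec (CommRingCat.of k))] [AlgebraicGeometry.IsIntegral X] in
include hdim in
theorem dim_two [IsProper (X ↘ Spec (CommRingCat.of k))] [AlgebraicGeometry.IsIntegral X] :
    topologicalKrullDim (SymProd.fibPow (X ↘ Spec (CommRingCat.of k)) 2) = (4 : ℕ) := by
  have := isIntegral_two (X ↘ Spec (CommRingCat.of k))
  have := smooth_two (X ↘ Spec (CommRingCat.of k)) 2 hdim
  rw [Groth.Agent.VarietyB.DimTop.topologicalKrullDim_eq_iSup_localDim]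
  have h : SmoothOfRelativeDimension (0 + 2 * 2) (base (X ↘ Spec (CommRingCat.of k)) 2) := this
  apply le_antisymm
  · exact iSup_le fun z => (Groth.Agent.UnramA.SmoothFibreDim.localDim_eq (2 * 2) (base (X ↘ Spec (CommRingCat.of k)) 2) z).le
  · refine le_iSup_of_le (genericPoint _) ?_
    exact (Groth.Agent.UnramA.SmoothFibreDim.localDim_eq (2 * 2) (base (X ↘ Spec (CommRingCat.of k)) 2) _).ge

include hdim hY hρ in
theorem three_le_dim_closure (v : ((q ⁻¹ᵁ Wo (X ↘ Spec (CommRingCat.of k)) q :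
      (SymProd.fibPow (X ↘ Spec (CommRingCat.of k)) 2).Opens) : Scheme.{u}))
    (hv : ringKrullDim ((SymProd.fibPow (X ↘ Spec (CommRingCat.of k)) 2).presheaf.stalk
      ((q ⁻¹ᵁ Wo (X ↘ Spec (CommRingCat.of k)) q).ι v)) ≤ 1) :
    ((3 : ℕ) : WithBot ℕ∞) ≤ topologicalKrullDim (closure {D.c v} : Set Hs) := by
  have := isIntegral_two (X ↘ Spec (CommRingCat.of k))
  have := proper_two (X ↘ Spec (CommRingCat.of k))
  have h1 := le_topologicalKrullDim (base (X ↘ Spec (CommRingCat.of k)) 2) (dim_two X hdim) isClosed_closure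
    (subset_closure (Set.mem_singleton ((q ⁻¹ᵁ Wo (X ↘ Spec (CommRingCat.of k)) q).ι v))) hv
  have h2 := dim_closure_le_of_qf q ((q ⁻¹ᵁ Wo (X ↘ Spec (CommRingCat.of k)) q).ι v)
  have : IsProper gY := (K639.SymFacts.quot_facts_gen (X ↘ Spec (CommRingCat.of k)) 1 q gY hY).1
  have hρ1 : IsProper (ρ ≫ gY) := by
    rw [hρ.1]
    exact inferInstanceAs (IsProper (Hs ↘ Spec (CommRingCat.of k)))
  have : IsProper ρ := IsProper.of_comp ρ gY
  have h3 := dim_closure_le_of_closed ρ ρ.isClosedMap (D.c v)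
  have h4 : ρ (D.c v) = q ((q ⁻¹ᵁ Wo (X ↘ Spec (CommRingCat.of k)) q).ι v) := by
    have h5 := congrArg (fun φ => φ v) (D.c_ρ q gY ρ hρ)
    exact (Scheme.Hom.comp_apply D.c ρ v).symm.trans (h5.trans (Scheme.Hom.comp_apply _ q v))
  rw [h4] at h3
  exact h1.trans (h2.trans h3)

include hdim hY hHs hρ D in
/-- The main geometric step. -/
theorem exists_div (F : X.Modules) (hF : PicF.IsInvertible F) (hFO : IsEmpty (F ≅ Coh.structureModule X))
    (G : Hs.Modules) (hG : PicF.IsInvertible G) [IsIntegral Z.1.subscheme] [IsLocallyNoetherian Z.1.subscheme]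
    [IsFinite (TautSh.famToH (X ↘ Spec (CommRingCat.of k)) (Over.mk (Hs ↘ Spec (CommRingCat.of k))) Z.1)]
    (u : (Scheme.Modules.pullback (TautSh.famToH (X ↘ Spec (CommRingCat.of k)) (Over.mk (Hs ↘ Spec (CommRingCat.of k))) Z.1)).obj G ⟶
      (Scheme.Modules.pullback (TautSh.famToX (X ↘ Spec (CommRingCat.of k)) (Over.mk (Hs ↘ Spec (CommRingCat.of k))) Z.1)).obj F)
    (hu : u ≠ 0)
    (hrk : rk (X := Hs) ((Scheme.Modules.pushforward (TautSh.famToH (X ↘ Spec (CommRingCat.of k))
      (Over.mk (Hs ↘ Spec (CommRingCat.of k))) Z.1)).obj (cokernel u)) = 0) :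
    ∃ h : Hs, ρ h ∈ Wo (X ↘ Spec (CommRingCat.of k)) q ∧ h ∈ CohB1.support (X := Hs) ((Scheme.Modules.pushforward (TautSh.famToH (X ↘ Spec (CommRingCat.of k))
      (Over.mk (Hs ↘ Spec (CommRingCat.of k))) Z.1)).obj (cokernel u)) ∧
      topologicalKrullDim (closure {h} : Set Hs) = (3 : ℕ) := by
  by_contra hcon
  push Not at hcon
  have := isIntegral_two (X ↘ Spec (CommRingCat.of k))
  have := proper_two (X ↘ Spec (CommRingCat.of k))
  have hNH : IsLocallyNoetherian Hs := LocallyOfFiniteType.isLocallyNoetherian (Hs ↘ Spec (CommRingCat.of k))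
  have hN2 : IsLocallyNoetherian (SymProd.fibPow (X ↘ Spec (CommRingCat.of k)) 2) :=
    LocallyOfFiniteType.isLocallyNoetherian (base (X ↘ Spec (CommRingCat.of k)) 2)
  have hG' := Fdesc.LocGen.isInvertible_pullback
    (TautSh.famToH (X ↘ Spec (CommRingCat.of k)) (Over.mk (Hs ↘ Spec (CommRingCat.of k))) Z.1) hG
  have hF' := Fdesc.LocGen.isInvertible_pullback
    (TautSh.famToX (X ↘ Spec (CommRingCat.of k)) (Over.mk (Hs ↘ Spec (CommRingCat.of k))) Z.1) hF
  have hcG := isCoh_of_isInvertible hG'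
  have hcF := isCoh_of_isInvertible hF'
  have : Mono u := K704.InvHom.mono_of_ne_zero hG' hF' u hu
  have hcQ : Coh.IsCoh (cokernel u) := Groth.Agent.PerfA.CohSerre.isCoh_cokernel u hcG.1 hcF
  let W := K848.Hull2.cokOpen hcG hcF u
  have hWi : IsIso ((Scheme.Modules.restrictFunctor W.ι).map u) :=
    K848.Hartogs.isIso_restrict_of_stalk u (K848.Hull2.bijective_cokOpen hcG hcF u)
  have key : ∀ (i : Fin 2) (v : ((q ⁻¹ᵁ Wo (X ↘ Spec (CommRingCat.of k)) q :
      (SymProd.fibPow (X ↘ Spec (CommRingCat.of k)) 2).Opens) : Scheme.{u})),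
      ringKrullDim ((SymProd.fibPow (X ↘ Spec (CommRingCat.of k)) 2).presheaf.stalk
        ((q ⁻¹ᵁ Wo (X ↘ Spec (CommRingCat.of k)) q).ι v)) ≤ 1 → D.s i v ∈ W := by
    intro i v hv hs
    have h1 := SuppPush.mem_support_push
      (TautSh.famToH (X ↘ Spec (CommRingCat.of k)) (Over.mk (Hs ↘ Spec (CommRingCat.of k))) Z.1) hcQ.1 hs
    rw [p_s] at h1
    have h2 : ρ (D.c v) = q ((q ⁻¹ᵁ Wo (X ↘ Spec (CommRingCat.of k)) q).ι v) := by
      have h5 := congrArg (fun φ => φ v) (D.c_ρ q gY ρ hρ)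
      exact (Scheme.Hom.comp_apply D.c ρ v).symm.trans (h5.trans (Scheme.Hom.comp_apply _ q v))
    have h3 : ρ (D.c v) ∈ Wo (X ↘ Spec (CommRingCat.of k)) q := by
      rw [h2]
      exact v.2
    refine hcon (D.c v) h3 h1 (le_antisymm ?_ (three_le_dim_closure X hdim q gY hY Z ρ hρ D v hv))
    have hcP := Push.isCoh_push
      (TautSh.famToH (X ↘ Spec (CommRingCat.of k)) (Over.mk (Hs ↘ Spec (CommRingCat.of k))) Z.1) hcQ
    refine le_trans (Groth.Agent.Fga.DimLt.topologicalKrullDim_mono ?_) (dim_support_le hHs hcP hrk)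
    exact closure_minimal (Set.singleton_subset_iff.2 h1) (Ega3B.Devissage.isClosed_support hcP)
  -- the big open subset
  let V := q ⁻¹ᵁ Wo (X ↘ Spec (CommRingCat.of k)) q
  let V' : (V : Scheme.{u}).Opens := D.s 0 ⁻¹ᵁ W ⊓ D.s 1 ⁻¹ᵁ W
  let U' : (SymProd.fibPow (X ↘ Spec (CommRingCat.of k)) 2).Opens := V.ι ''ᵁ V'
  have hUV : U' ≤ V := by
    rintro _ ⟨v, -, rfl⟩
    exact v.2
  let l : (U' : Scheme.{u}) ⟶ V := (SymProd.fibPow (X ↘ Spec (CommRingCat.of k)) 2).homOfLE hUV
  have hl : l ≫ V.ι = U'.ι := Scheme.homOfLE_ι _ hUV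
  have hlV : ∀ t, l t ∈ V' := by
    intro t
    have h1 : V.ι (l t) = U'.ι t := by rw [← Scheme.Hom.comp_apply, hl]
    obtain ⟨v, hv, hv'⟩ := t.2
    have h3 : v = l t := V.ι.injective (hv'.trans h1.symm)
    exact h3 ▸ hv
  have hls : ∀ (i : Fin 2) t, (l ≫ D.s i) t ∈ W := by
    intro i t
    rw [Scheme.Hom.comp_apply]
    obtain ⟨h0, h1⟩ := hlV t
    fin_cases i
    · exact h0
    · exact h1
  have e : ∀ i : Fin 2, Nonempty ((Scheme.Modules.pullback U'.ι).obj
      ((Scheme.Modules.pullback (pr (X ↘ Spec (CommRingCat.of k)) i)).obj F) ≅ (Scheme.Modules.pullback (l ≫ D.c)).obj G) := by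
    intro i
    have hi := isIso_pullback_of_range (l ≫ D.s i) u W hWi (hls i)
    have h1 : U'.ι ≫ pr (X ↘ Spec (CommRingCat.of k)) i = (l ≫ D.s i) ≫
        TautSh.famToX (X ↘ Spec (CommRingCat.of k)) (Over.mk (Hs ↘ Spec (CommRingCat.of k))) Z.1 := by
      rw [Category.assoc, D.s_toX, ← Category.assoc, hl]
    have h2 : (l ≫ D.s i) ≫
        TautSh.famToH (X ↘ Spec (CommRingCat.of k)) (Over.mk (Hs ↘ Spec (CommRingCat.of k))) Z.1 = l ≫ D.c := by
      rw [Category.assoc, D.s_toH]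
    exact ⟨(Scheme.Modules.pullbackComp _ _).app F ≪≫ (Scheme.Modules.pullbackCongr h1).app F ≪≫
      ((Scheme.Modules.pullbackComp _ _).app F).symm ≪≫ (asIso ((Scheme.Modules.pullback (l ≫ D.s i)).map u)).symm ≪≫
      (Scheme.Modules.pullbackComp _ _).app G ≪≫ (Scheme.Modules.pullbackCongr h2).app G⟩
  obtain ⟨e0⟩ := e 0
  obtain ⟨e1⟩ := e 1
  have hbig : ∀ x, x ∉ U' → (2 : WithBot ℕ∞) ≤
      ringKrullDim ((SymProd.fibPow (X ↘ Spec (CommRingCat.of k)) 2).presheaf.stalk x) := by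
    intro x hx
    by_contra hlt
    apply hx
    have := K992.DimPow.smoothOfRelativeDimension (X ↘ Spec (CommRingCat.of k)) 2 hdim
    have hV : x ∈ V := (mem_preimage_Wo (X ↘ Spec (CommRingCat.of k)) q gY hY).2 fun hd =>
      hlt (K992.DimPow.le_ringKrullDim_of_mem_bigDiag (X ↘ Spec (CommRingCat.of k)) 2 1 x hd)
    have h1 : ringKrullDim ((SymProd.fibPow (X ↘ Spec (CommRingCat.of k)) 2).presheaf.stalk x) ≤ 1 := by
      have h2 := not_le.1 hlt
      generalize ringKrullDim ((SymProd.fibPow (X ↘ Spec (CommRingCat.of k)) 2).presheaf.stalk x) = a at h2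
      induction a using WithBot.recBotCoe with
      | bot => exact bot_le
      | coe a =>
        have h3 : a < (2 : ℕ∞) := WithBot.coe_lt_coe.1 h2
        have h4 : a ≤ (1 : ℕ∞) := by
          have h5 : a < (1 : ℕ∞) + 1 := by rwa [one_add_one_eq_two]
          exact Order.le_of_lt_add_one h5
        exact_mod_cast h4
    exact ⟨⟨x, hV⟩, ⟨key 0 ⟨x, hV⟩ h1, key 1 ⟨x, hV⟩ h1⟩, rfl⟩
  obtain ⟨e⟩ := K166.Hart.nonempty_iso_of_big (regular_two (X ↘ Spec (CommRingCat.of k)) 2 hdim) _ _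
    (K341.Core.isFinLocFree_of_isInvertible (Fdesc.LocGen.isInvertible_pullback _ hF))
    (K341.Core.isFinLocFree_of_isInvertible (Fdesc.LocGen.isInvertible_pullback _ hF)) U' hbig (e0 ≪≫ e1.symm)
  obtain ⟨e'⟩ := K166.Hart.nonempty_iso_of_pr k X F hF e
  exact hFO.false e'

end Main

end K341.Key
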