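import Groth.Agent.TautSh.K341.Key

/-!
# The numerical criterion for the slope stability of direct images along double covers
-/

set_option autoImplicit false
universe u

open CategoryTheory CategoryTheory.Limits AlgebraicGeometry TopologicalSpace Polynomial

namespace K341.Num

open Groth.Agent Groth.Agent.Fga.PicMon Groth.Agent.Fga.SnapperTwist Groth.Agent.Fdesc K848.Rank K848.Hull K848.Poly
  K848.HB K848.TF K848.Dim K848.Stab ShStab StabCat K341.Core K341.Push K341.Key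

theorem exists_large (B : ℚ) : ∃ t0 : ℕ, ∀ t : ℕ, t0 ≤ t → B * ((t : ℚ) + 1) ^ 2 < 2 * (t : ℚ) ^ 3 := by
  obtain ⟨n, hn⟩ := exists_nat_gt (|B| * 4)
  refine ⟨n + 1, fun t ht => ?_⟩
  have h1 : (1 : ℚ) ≤ t := by
    have : 1 ≤ t := by omega
    exact_mod_cast this
  have h2 : |B| * 4 < t := lt_trans hn (by exact_mod_cast (by omega : n < t))
  have h3 : B * ((t : ℚ) + 1) ^ 2 ≤ |B| * ((t : ℚ) + 1) ^ 2 := mul_le_mul_of_nonneg_right (le_abs_self B) (by positivity)
  have h4 : ((t : ℚ) + 1) ^ 2 ≤ 4 * t ^ 2 := by nlinarith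
  have h5 : |B| * ((t : ℚ) + 1) ^ 2 ≤ |B| * (4 * t ^ 2) := mul_le_mul_of_nonneg_left h4 (abs_nonneg B)
  have h6 : |B| * (4 * t ^ 2) = (|B| * 4) * t ^ 2 := by ring
  have h7 : (|B| * 4) * (t : ℚ) ^ 2 < t * t ^ 2 := by
    apply mul_lt_mul_of_pos_right h2
    positivity
  have h8 : (0 : ℚ) < (t : ℚ) ^ 3 := by positivity
  calc B * ((t : ℚ) + 1) ^ 2 ≤ |B| * (4 * t ^ 2) := h3.trans h5
    _ = (|B| * 4) * t ^ 2 := h6
    _ < t * t ^ 2 := h7
    _ = (t : ℚ) ^ 3 := by ring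
    _ < 2 * (t : ℚ) ^ 3 := by linarith

variable (k : Type u) [Field k] {Z H Y : Scheme.{u}} [Z.Over (Spec (CommRingCat.of k))]
  [H.Over (Spec (CommRingCat.of k))] [IsProper (Z ↘ Spec (CommRingCat.of k))]
  [IsProper (H ↘ Spec (CommRingCat.of k))] [IsIntegral H] [IsIntegral Z]
  (p : Z ⟶ H) [IsFinite p] [Surjective p] [Flat p]
  (hp' : p ≫ (H ↘ Spec (CommRingCat.of k)) = Z ↘ Spec (CommRingCat.of k))
  {L : H.Modules} (hL : PicF.IsInvertible L)
  (e : (Scheme.Modules.pushforward p).obj (Coh.structureModule Z) ≅ Coh.structureModule H ⊞ L)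
  (hreg : ∀ x : H, IsRegularLocalRing (H.presheaf.stalk x)) (hdim : topologicalKrullDim H = (4 : ℕ))
  (gY : Y ⟶ Spec (CommRingCat.of k)) [IsProper gY] (ρ : H ⟶ Y) (hρ : ρ ≫ gY = H ↘ Spec (CommRingCat.of k))
  (M : Y.Modules) (hM : CohB1.IsAmple M) (D : H.Modules) (hD : PicF.IsInvertible D)
  {F : Z.Modules} (hF : PicF.IsInvertible F) (m : CohB1.tensorMod L L ⟶ Coh.structureModule H)
  (hC : genericPoint H ∉ CohB1.support (cokernel m))
  (hCρ : topologicalKrullDim (closure (ρ '' CohB1.support (cokernel m))) < (3 : ℕ))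
  (hdiv : ∀ (G : H.Modules) (_ : PicF.IsInvertible G) (u : (Scheme.Modules.pullback p).obj G ⟶ F), u ≠ 0 →
    rk ((Scheme.Modules.pushforward p).obj (cokernel u)) = 0 → ∃ h ∈ CohB1.support ((Scheme.Modules.pushforward p).obj (cokernel u)),
      topologicalKrullDim (closure {h} : Set H) = (3 : ℕ) ∧ ρ.QuasiFiniteAt h)

include hL hC in
omit [IsProper (H ↘ Spec (CommRingCat.of k))] [H.Over (Spec (CommRingCat.of k))] in
theorem ne_zero_of_gen [IsLocallyNoetherian H] : m ≠ 0 := by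
  rintro rfl
  have hcm : Coh.IsCoh (cokernel (0 : CohB1.tensorMod L L ⟶ Coh.structureModule H)) := Groth.Agent.PerfA.CohSerre.isCoh_cokernel _
    (isCoh_tensor' hL (isCoh_of_isInvertible hL)).1 isCoh_structureModule
  have h1 := (rk_eq_zero_iff hcm).2 hC
  rw [rk_iso (cokernelZeroIsoTarget (X := CohB1.tensorMod L L) (Y := Coh.structureModule H)), rk_structureModule] at h1
  exact one_ne_zero h1

include hp' hL e hreg hdim hρ hM hD hF hC hCρ hdiv in
theorem exists_bound : ∃ N0 : ℕ, ∀ N : ℕ, N0 ≤ N →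
    CohB1.IsAmple (CohB1.tensorMod (CohB1.tensorPow ((Scheme.Modules.pullback ρ).obj M) N) D) →
      IsMuStable k H (CohB1.tensorMod (CohB1.tensorPow ((Scheme.Modules.pullback ρ).obj M) N) D)
        ((Scheme.Modules.pushforward p).obj F) 4 := by
  classical
  by_cases hex : ∃ Ns : ℕ, CohB1.IsAmple (CohB1.tensorMod (CohB1.tensorPow ((Scheme.Modules.pullback ρ).obj M) Ns) D)
  swap
  · exact ⟨0, fun N _ h => absurd ⟨N, h⟩ hex⟩
  obtain ⟨Ns, hNs⟩ := hex
  have hN := isNoetherian_of_proper k H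
  have hNZ := isNoetherian_of_proper k Z
  have hcm : Coh.IsCoh (cokernel m) := Groth.Agent.PerfA.CohSerre.isCoh_cokernel m
    (isCoh_tensor' hL (isCoh_of_isInvertible hL)).1 isCoh_structureModule
  have hm : m ≠ 0 := ne_zero_of_gen hL m hC
  have hdC : topologicalKrullDim (CohB1.support (cokernel m)) ≤ (3 : ℕ) :=
    dim_support_le hdim hcm ((rk_eq_zero_iff hcm).2 hC)
  obtain ⟨B, hB⟩ := K396.Bd.alpha_upper k gY ρ hρ M hM D hD Ns hNs 3 (cokernel m) hcm hdC hCρ
  obtain ⟨t0, ht0⟩ := exists_large B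
  refine ⟨Ns + t0, fun N hN' hA => ?_⟩
  obtain ⟨t, rfl⟩ : ∃ t, N = Ns + t := ⟨N - Ns, by omega⟩
  have ht : t0 ≤ t := by omega
  refine isMuStable_push k p hp' hL e hreg (r := 3) hdim hF hA m hm ?_
  intro G hG u hu
  have hG' : PicF.IsInvertible ((Scheme.Modules.pullback p).obj G) := Fdesc.LocGen.isInvertible_pullback p hG
  have hcQ : Coh.IsCoh (cokernel u) := Groth.Agent.PerfA.CohSerre.isCoh_cokernel u (isCoh_of_isInvertible hG').1
    (isCoh_of_isInvertible hF)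
  have hcP := isCoh_push p hcQ
  have hrk : rk ((Scheme.Modules.pushforward p).obj (cokernel u)) = 0 := by
    rw [rk_push k p hp' hA hdim hcQ, rk_cokernel hG' hF u hu, zero_mul]
  obtain ⟨h, hh, hh3, hqf⟩ := hdiv G hG u hu hrk
  have h1 := hB t _ (isHilbPoly_hp k hA.1 hcm)
  have h2 := K396.Bd.alpha_lower k gY ρ hρ M hM D hD Ns hNs 3 _ hcP (dim_support_le hdim hcP hrk) h hh hh3 hqf t _
    (isHilbPoly_hp k hA.1 hcP)
  have h3 := ht0 t ht
  have h4 : (3 - 1 : ℕ) = 2 := rfl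
  rw [h4] at h1
  linarith

end K341.Num
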