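import Groth.Agent.SymProd.K992.DimPow
import Groth.Agent.HilbZeta.K842.Split
import Groth.Prelude.Def_TautSec2

/-!
# Pairs of distinct points: the morphism from the complement of the diagonal to the Hilbert scheme of two points
-/

set_option autoImplicit false
set_option backward.isDefEq.respectTransparency false
universe u

open CategoryTheory CategoryTheory.Limits AlgebraicGeometry

namespace K341.Pts

open K992.FibPow K992.BigDiag Groth.Agent.Picfga.HilbPull Groth.Agent.Picfga.HilbTriple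
  Groth.Agent.Picfga.SecGraph

theorem ker_desc {A B T : Scheme.{u}} (a : A ⟶ T) (b : B ⟶ T) [QuasiCompact a] [QuasiCompact b] :
    (coprod.desc a b).ker = a.ker ⊓ b.ker := by
  apply le_antisymm
  · refine le_inf ?_ ?_
    · have := Scheme.Hom.le_ker_comp (coprod.inl : A ⟶ A ⨿ B) (coprod.desc a b)
      rwa [coprod.inl_desc] at this
    · have := Scheme.Hom.le_ker_comp (coprod.inr : B ⟶ A ⨿ B) (coprod.desc a b)
      rwa [coprod.inr_desc] at this
  · set J := a.ker ⊓ b.ker with hJ
    have ha : J.subschemeι.ker ≤ a.ker := by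
      rw [Scheme.IdealSheafData.ker_subschemeι]; exact inf_le_left
    have hb : J.subschemeι.ker ≤ b.ker := by
      rw [Scheme.IdealSheafData.ker_subschemeι]; exact inf_le_right
    have e : coprod.desc (IsClosedImmersion.lift J.subschemeι a ha)
        (IsClosedImmersion.lift J.subschemeι b hb) ≫ J.subschemeι = coprod.desc a b := by
      apply coprod.hom_ext
      · rw [coprod.inl_desc_assoc, coprod.inl_desc, IsClosedImmersion.lift_fac]
      · rw [coprod.inr_desc_assoc, coprod.inr_desc, IsClosedImmersion.lift_fac]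
    rw [← e]
    have h := Scheme.Hom.le_ker_comp (coprod.desc (IsClosedImmersion.lift J.subschemeι a ha)
        (IsClosedImmersion.lift J.subschemeι b hb)) J.subschemeι
    rwa [Scheme.IdealSheafData.ker_subschemeι] at h

variable {X S : Scheme.{u}} (f : X ⟶ S) [IsSeparated f]

section Dis

variable {T : Over S} (a : T.left ⟶ SymProd.fibPow f 2) (ha : a ≫ base f 2 = T.hom)
  (hV : ∀ t, a t ∉ bigDiag f 1)

omit [IsSeparated f] in
include ha in
theorem hxa (i : Fin 2) : (a ≫ pr f i) ≫ f = T.hom := by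
  rw [Category.assoc, pr_comp, ha]

include hV in
theorem disjoint_sec {i j : Fin 2} (hij : i ≠ j) :
    Disjoint (Set.range (sec f T (a ≫ pr f i) (hxa f a ha i))) (Set.range (sec f T (a ≫ pr f j) (hxa f a ha j))) := by
  rw [Set.disjoint_left]
  rintro _ ⟨t, rfl⟩ ⟨b, hb⟩
  obtain ⟨e, h1, h2⟩ := Scheme.Pullback.exists_preimage_pullback
    (f := sec f T (a ≫ pr f i) (hxa f a ha i)) (g := sec f T (a ≫ pr f j) (hxa f a ha j)) t b hb.symm
  have hc : pullback.fst (sec f T (a ≫ pr f i) (hxa f a ha i)) (sec f T (a ≫ pr f j) (hxa f a ha j)) ≫ _ =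
    pullback.snd (sec f T (a ≫ pr f i) (hxa f a ha i)) (sec f T (a ≫ pr f j) (hxa f a ha j)) ≫ _ := pullback.condition
  have hp := congrArg (· ≫ PicF.XTproj f T) hc
  simp only [Category.assoc, sec_proj, Category.comp_id] at hp
  have hq := congrArg (· ≫ pullback.fst f T.hom) hc
  simp only [Category.assoc, sec_fst] at hq
  rw [← hp] at hq
  have h3 := mem_of_eq f hij (pullback.fst (sec f T (a ≫ pr f i) (hxa f a ha i))
    (sec f T (a ≫ pr f j) (hxa f a ha j)) ≫ a) (by simpa only [Category.assoc] using hq) e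
  exact hV _ h3

end Dis

section Pair

variable {T : Over S} (x : Fin 2 → (T.left ⟶ X)) (hx : ∀ i, x i ≫ f = T.hom)
  (hdis : Disjoint (Set.range (sec f T (x 0) (hx 0))) (Set.range (sec f T (x 1) (hx 1))))

omit [IsSeparated f] in
include hx in
theorem pair_w : coprod.desc (x 0) (x 1) ≫ f = coprod.desc (𝟙 T.left) (𝟙 T.left) ≫ T.hom := by
  apply coprod.hom_ext
  · rw [coprod.inl_desc_assoc, coprod.inl_desc_assoc, Category.id_comp, hx]
  · rw [coprod.inr_desc_assoc, coprod.inr_desc_assoc, Category.id_comp, hx]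

theorem toXT_pair : toXT f (coprod.desc (𝟙 T.left) (𝟙 T.left)) (coprod.desc (x 0) (x 1)) (pair_w f x hx) =
    coprod.desc (sec f T (x 0) (hx 0)) (sec f T (x 1) (hx 1)) := by
  apply coprod.hom_ext
  · apply pullback.hom_ext
    · rw [Category.assoc, pullback.lift_fst, coprod.inl_desc, coprod.inl_desc, sec_fst]
    · rw [Category.assoc, pullback.lift_snd, coprod.inl_desc, coprod.inl_desc]
      exact (sec_proj f (x 0) (hx 0)).symm
  · apply pullback.hom_ext
    · rw [Category.assoc, pullback.lift_fst, coprod.inr_desc, coprod.inr_desc, sec_fst]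
    · rw [Category.assoc, pullback.lift_snd, coprod.inr_desc, coprod.inr_desc]
      exact (sec_proj f (x 1) (hx 1)).symm

include hdis in
theorem isClosedImmersion_pair : IsClosedImmersion
    (toXT f (coprod.desc (𝟙 T.left) (𝟙 T.left)) (coprod.desc (x 0) (x 1)) (pair_w f x hx)) := by
  rw [toXT_pair f x hx]
  exact K842.Split.isClosedImmersion_coprodDesc _ _ hdis

theorem isFinLocFreeOfDeg_id (T : Scheme.{u}) : Mor2.IsFinLocFreeOfDeg 1 (𝟙 T) :=
  ⟨⟨inferInstance, inferInstance, inferInstance⟩, fun y => by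
    rw [Scheme.Hom.finrank_eq_one_of_isIso]; rfl⟩

theorem isFinLocFreeOfDeg_fold (T : Scheme.{u}) : Mor2.IsFinLocFreeOfDeg 2 (coprod.desc (𝟙 T) (𝟙 T)) :=
  K842.CoprodRank.isFinLocFreeOfDeg_coprodDesc _ _ rfl (isFinLocFreeOfDeg_id T) (isFinLocFreeOfDeg_id T)

/-- The family of two disjoint sections. -/
noncomputable def pairObj : HilbD.Obj f 2 T :=
  haveI := isClosedImmersion_pair f x hx hdis
  ofTriple f _ _ (pair_w f x hx) (isFinLocFreeOfDeg_fold _)

theorem pairObj_val : (pairObj f x hx hdis).1 = TautSh.graphsIdeal f 2 T x hx := by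
  have h : (pairObj f x hx hdis).1 = (coprod.desc (sec f T (x 0) (hx 0)) (sec f T (x 1) (hx 1))).ker := by
    rw [← toXT_pair f x hx]
    rfl
  rw [h, ker_desc]
  apply le_antisymm
  · refine le_iInf fun i => ?_
    fin_cases i
    · exact inf_le_left
    · exact inf_le_right
  · exact le_inf (iInf_le _ 0) (iInf_le _ 1)

theorem secGraph_sup {i j : Fin 2} (h : Disjoint (Set.range (sec f T (x i) (hx i))) (Set.range (sec f T (x j) (hx j)))) :
    HilbD.secGraph f T (x i) (hx i) ⊔ HilbD.secGraph f T (x j) (hx j) = ⊤ := by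
  rw [← Scheme.IdealSheafData.support_eq_bot_iff, Scheme.IdealSheafData.support_sup, secGraph_eq_ker,
    secGraph_eq_ker]
  apply TopologicalSpace.Closeds.ext
  rw [TopologicalSpace.Closeds.coe_inf, Scheme.Hom.support_ker, Scheme.Hom.support_ker,
    (sec f T (x i) (hx i)).isClosedEmbedding.isClosed_range.closure_eq,
    (sec f T (x j) (hx j)).isClosedEmbedding.isClosed_range.closure_eq]
  exact Set.disjoint_iff_inter_eq_empty.1 h

include hdis in
theorem disjointSections : TautSh.DisjointSections f 2 T x hx := by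
  intro i j hij
  apply secGraph_sup
  fin_cases i <;> fin_cases j
  · exact absurd rfl hij
  · exact hdis
  · exact hdis.symm
  · exact absurd rfl hij

variable {H : Over S} (Z : HilbD.Obj f 2 H) (hU : HilbD.IsUniversal f 2 H Z)

include hU hdis in
/-- The classifying morphism of two disjoint sections. -/
theorem exists_class : ∃ c : T ⟶ H, HilbD.pull f c Z.1 = TautSh.graphsIdeal f 2 T x hx ∧
    ∃ m : (T.left ⨿ T.left : Scheme.{u}) ⟶ Z.1.subscheme,
      IsPullback m (coprod.desc (𝟙 T.left) (𝟙 T.left)) (TautSh.famToH f H Z.1) c.left ∧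
      m ≫ TautSh.famToX f H Z.1 = coprod.desc (x 0) (x 1) := by
  obtain ⟨c, hc, -⟩ := hU T (pairObj f x hx hdis)
  refine ⟨c, hc.trans (pairObj_val f x hx hdis), ?_⟩
  obtain ⟨m, hm, hm'⟩ := exists_isPullback_of_pull_eq f c _ _ hc
  haveI := isClosedImmersion_pair f x hx hdis
  obtain ⟨e, he, he'⟩ := exists_iso_ker f _ _ (pair_w f x hx)
  refine ⟨e.hom ≫ m, ?_, ?_⟩
  · have h2 : IsPullback e.hom (coprod.desc (𝟙 T.left) (𝟙 T.left)) (pi f (pairObj f x hx hdis).1) (𝟙 _) :=
      IsPullback.of_horiz_isIso ⟨by rw [Category.comp_id]; exact he⟩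
    have h3 := h2.paste_horiz hm
    rwa [Category.id_comp] at h3
  · rw [Category.assoc]
    refine (congrArg (e.hom ≫ ·) hm').trans he'

end Pair

section OnV

variable {H : Over S} (Z : HilbD.Obj f 2 H)

omit [IsSeparated f] in
/-- A morphism to the universal family is determined by its components. -/
theorem fam_ext {T : Scheme.{u}} {a b : T ⟶ Z.1.subscheme}
    (h1 : a ≫ TautSh.famToH f H Z.1 = b ≫ TautSh.famToH f H Z.1)
    (h2 : a ≫ TautSh.famToX f H Z.1 = b ≫ TautSh.famToX f H Z.1) : a = b := by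
  rw [← cancel_mono Z.1.subschemeι]
  apply pullback.hom_ext
  · simpa only [Category.assoc] using h2
  · simpa only [Category.assoc] using h1

/-- The classifying morphism of a family of pairs of distinct points with its two sections. -/
theorem exists_onV (hU : HilbD.IsUniversal f 2 H Z) {T : Over S} (a : T.left ⟶ SymProd.fibPow f 2)
    (ha : a ≫ base f 2 = T.hom) (hV : ∀ t, a t ∉ bigDiag f 1) :
    ∃ (c : T ⟶ H) (s : Fin 2 → (T.left ⟶ Z.1.subscheme)),
    HilbD.pull f c Z.1 = TautSh.graphsIdeal f 2 T (fun i => a ≫ pr f i) (hxa f a ha) ∧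
    (∀ i, s i ≫ TautSh.famToH f H Z.1 = c.left) ∧ (∀ i, s i ≫ TautSh.famToX f H Z.1 = a ≫ pr f i) ∧
    IsPullback (coprod.desc (s 0) (s 1)) (coprod.desc (𝟙 T.left) (𝟙 T.left)) (TautSh.famToH f H Z.1) c.left := by
  obtain ⟨c, hc, m, hm, hm'⟩ := exists_class f (fun i => a ≫ pr f i) (hxa f a ha)
    (disjoint_sec f a ha hV (i := 0) (j := 1) (by decide)) Z hU
  have e0 := congrArg (coprod.inl ≫ ·) hm.w
  have e1 := congrArg (coprod.inr ≫ ·) hm.w
  have e0' := congrArg (coprod.inl ≫ ·) hm'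
  have e1' := congrArg (coprod.inr ≫ ·) hm'
  simp only [coprod.inl_desc, coprod.inr_desc, coprod.inl_desc_assoc, coprod.inr_desc_assoc, Category.id_comp] at e0 e1 e0' e1'
  have hd : m = coprod.desc (coprod.inl ≫ m) (coprod.inr ≫ m) := by
    apply coprod.hom_ext
    · rw [coprod.inl_desc]
    · rw [coprod.inr_desc]
  refine ⟨c, ![coprod.inl ≫ m, coprod.inr ≫ m], hc, ?_, ?_, ?_⟩
  · intro i
    fin_cases i
    · exact (Category.assoc _ _ _).trans e0
    · exact (Category.assoc _ _ _).trans e1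
  · intro i
    fin_cases i
    · exact (Category.assoc _ _ _).trans e0'
    · exact (Category.assoc _ _ _).trans e1'
  · have h := hm
    rw [hd] at h
    exact h

/-- A point of a coproduct comes from one of the summands. -/
theorem exists_of_coprod {A B : Scheme.{u}} (t : (A ⨿ B : Scheme.{u})) :
    (∃ a : A, (coprod.inl : A ⟶ A ⨿ B) a = t) ∨ ∃ b : B, (coprod.inr : B ⟶ A ⨿ B) b = t := by
  obtain ⟨w, rfl⟩ := (coprodMk A B).surjective t
  rcases w with a | b
  · exact Or.inl ⟨a, (coprodMk_inl A B a).symm⟩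
  · exact Or.inr ⟨b, (coprodMk_inr A B b).symm⟩

omit [IsSeparated f] in
/-- The points of the fibres of the universal family over the image of a split family. -/
theorem eq_or_of_isPullback {T : Scheme.{u}} {c : T ⟶ H.left} {s : Fin 2 → (T ⟶ Z.1.subscheme)}
    (hP : IsPullback (coprod.desc (s 0) (s 1)) (coprod.desc (𝟙 T) (𝟙 T)) (TautSh.famToH f H Z.1) c)
    (z : Z.1.subscheme) (v : T) (h : TautSh.famToH f H Z.1 z = c v) : z = s 0 v ∨ z = s 1 v := by
  obtain ⟨t, h1, h2⟩ := Scheme.exists_preimage_of_isPullback hP z v h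
  rcases exists_of_coprod t with ⟨a, rfl⟩ | ⟨a, rfl⟩
  · left
    rw [← Scheme.Hom.comp_apply, coprod.inl_desc] at h1 h2
    have : a = v := h2
    rw [← h1, this]
  · right
    rw [← Scheme.Hom.comp_apply, coprod.inr_desc] at h1 h2
    have : a = v := h2
    rw [← h1, this]

omit [IsSeparated f] in
theorem swap_disjoint_ideal {T : Over S} (x : Fin 2 → (T.left ⟶ X)) (hx : ∀ i, x i ≫ f = T.hom) :
    TautSh.graphsIdeal f 2 T (fun i => x (Equiv.swap 0 1 i)) (fun i => hx _) = TautSh.graphsIdeal f 2 T x hx := by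
  unfold TautSh.graphsIdeal
  exact (Equiv.swap (0 : Fin 2) 1).iInf_congr fun _ => rfl

theorem swap_symm_apply (i : Fin 2) : (Equiv.swap (0 : Fin 2) 1).symm i = Equiv.swap 0 1 i := by
  rw [Equiv.symm_swap]

omit [IsSeparated f] in
/-- The swap stabilizes the diagonal. -/
theorem swap_mem {t : SymProd.fibPow f 2} (h : SymProd.permHom f 2 (Equiv.swap 0 1) t ∈ bigDiag f 1) :
    t ∈ bigDiag f 1 := by
  obtain ⟨i, j, hij, w, hw⟩ := (mem_bigDiag f).1 h
  have e : δ f i j hij ≫ SymProd.permHom f 2 (Equiv.swap 0 1) = δ f i j hij := by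
    apply hom_ext_pos
    intro l
    rw [Category.assoc]
    have h1 : SymProd.permHom f 2 (Equiv.swap 0 1) ≫ pr f l = pr f (Equiv.swap 0 1 l) := by
      rw [pr, pr, SymProd.permHom_π, swap_symm_apply]
    rw [h1]
    have h2 := δ_pr_eq f i j hij
    fin_cases i <;> fin_cases j <;> fin_cases l <;> first | exact absurd rfl hij | exact h2 | exact h2.symm
  have h3 : SymProd.permHom f 2 (Equiv.swap 0 1) (SymProd.permHom f 2 (Equiv.swap 0 1) t) = t := by
    rw [← Scheme.Hom.comp_apply, ← SymProd.permHom_mul, Equiv.swap_mul_self, SymProd.permHom_one]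
    rfl
  rw [← h3, ← hw, ← Scheme.Hom.comp_apply, e]
  exact (mem_bigDiag f).2 ⟨i, j, hij, w, rfl⟩

/-- The open stable under the swap. -/
theorem exists_swap (U : (SymProd.fibPow f 2).Opens) (hU : ∀ t ∈ U, SymProd.permHom f 2 (Equiv.swap 0 1) t ∈ U) :
    ∃ w : (U : Scheme.{u}) ⟶ U, w ≫ U.ι = U.ι ≫ SymProd.permHom f 2 (Equiv.swap 0 1) := by
  refine ⟨IsOpenImmersion.lift U.ι (U.ι ≫ SymProd.permHom f 2 (Equiv.swap 0 1)) ?_, IsOpenImmersion.lift_fac _ _ _⟩
  rw [Scheme.Opens.range_ι]
  rintro _ ⟨t, rfl⟩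
  exact hU _ t.2

end OnV

section Data

variable {H : Over S} (Z : HilbD.Obj f 2 H)

omit [IsSeparated f] in
theorem inf_eq_mul {A : Scheme.{u}} (I J : A.IdealSheafData) (h : I ⊔ J = ⊤) : I ⊓ J = I * J := by
  ext U : 2
  have h1 : I.ideal U ⊔ J.ideal U = ⊤ := by
    have := congrArg (fun K => Scheme.IdealSheafData.ideal K U) h
    simpa using this
  simp only [Scheme.IdealSheafData.ideal_inf, Scheme.IdealSheafData.ideal_mul, Pi.inf_apply, Pi.mul_apply]
  exact (Ideal.mul_eq_inf_of_coprime h1).symm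

omit [IsSeparated f] in
theorem graphsIdeal_two {T : Over S} (x : Fin 2 → (T.left ⟶ X)) (hx : ∀ i, x i ≫ f = T.hom) :
    TautSh.graphsIdeal f 2 T x hx = HilbD.secGraph f T (x 0) (hx 0) ⊓ HilbD.secGraph f T (x 1) (hx 1) := by
  apply le_antisymm
  · exact le_inf (iInf_le _ 0) (iInf_le _ 1)
  · refine le_iInf fun i => ?_
    fin_cases i
    · exact inf_le_left
    · exact inf_le_right

/-- Base change of the union of two disjoint graphs. -/
theorem pull_graphsIdeal {T T' : Over S} (g : T' ⟶ T) (x : Fin 2 → (T.left ⟶ X)) (hx : ∀ i, x i ≫ f = T.hom)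
    (hdis : HilbD.secGraph f T (x 0) (hx 0) ⊔ HilbD.secGraph f T (x 1) (hx 1) = ⊤)
    (hdis' : HilbD.secGraph f T' (g.left ≫ x 0) (hx_comp f _ g (hx 0)) ⊔
      HilbD.secGraph f T' (g.left ≫ x 1) (hx_comp f _ g (hx 1)) = ⊤) :
    HilbD.pull f g (TautSh.graphsIdeal f 2 T x hx) =
      TautSh.graphsIdeal f 2 T' (fun i => g.left ≫ x i) (fun i => hx_comp f _ g (hx i)) := by
  rw [graphsIdeal_two, graphsIdeal_two, inf_eq_mul _ _ hdis, inf_eq_mul _ _ hdis', pull_mul, pull_secGraph,
    pull_secGraph]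

end Data

end K341.Pts
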