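import Groth.Agent.VarietyB.HHPush
import Groth.Agent.Sga67.HomInvB
import Groth.Agent.CohqA.AffPush
import Groth.Agent.Dcoh.PushFLF304
import Groth.Agent.VarietyB.ProjForm
import Groth.Agent.ShStab.K848.PicOne
import Groth.Agent.AlgSp.K618.Sch
import Groth.Agent.TautSh.K639.SymFacts

/-!
# Direct images along finite flat morphisms: local freeness, Hilbert polynomials, rank
-/

set_option autoImplicit false
universe u

open CategoryTheory CategoryTheory.Limits AlgebraicGeometry TopologicalSpace Polynomial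

namespace K341.Push

open Groth.Agent Groth.Agent.Fga.PicMon Groth.Agent.Fga.SnapperTwist Groth.Agent.Fdesc K848.Rank K848.Hull K848.Poly K848.HB K848.TF K848.Dim K848.Stab ShStab StabCat

section Free

variable {Z H : Scheme.{u}} (p : Z ⟶ H) [IsFinite p]

theorem isCoh_push {F : Z.Modules} (hF : Coh.IsCoh F) : Coh.IsCoh ((Scheme.Modules.pushforward p).obj F) :=
  ⟨CohqA.AffPush.isQCoh_push p F hF.1, CohqA.AffPush.isFT_push p F hF.1 hF.2⟩

theorem isFinLocFree_push [Flat p] [IsLocallyNoetherian H] {F : Z.Modules} (hq : Coh.IsQCoh F)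
    (hF : FlatMod.IsFinLocFree F) : FlatMod.IsFinLocFree ((Scheme.Modules.pushforward p).obj F) := by
  refine Dcoh.PushFLF304.isFinLocFree_pushforward' p hq IsAffineOpen (fun x => ?_) fun V hV _ => ?_
  · obtain ⟨V, hV, hx, -⟩ := exists_isAffineOpen_mem_and_subset (X := H) (x := x) (U := ⊤) trivial
    exact ⟨V, hV, hV, hx⟩
  · have hU : IsAffineOpen (p ⁻¹ᵁ V) := hV.preimage p
    obtain ⟨h1, h2⟩ := (Desc.FinLocFreeSections.isFinLocFree_iff_of_cover hq IsAffineOpen (fun x => by
      obtain ⟨V, hV, hx, -⟩ := exists_isAffineOpen_mem_and_subset (X := Z) (x := x) (U := ⊤) trivial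
      exact ⟨V, hV, hV, hx⟩)).1 hF (p ⁻¹ᵁ V) hU hU
    have hfin : (p.app V).hom.Finite := p.finite_app V hV
    have hflat : (p.app V).hom.Flat := by
      have := p.flat_appLE hV hU le_rfl
      rwa [Scheme.Hom.appLE_eq_app] at this
    let _ : Algebra Γ(H, V) Γ(Z, p ⁻¹ᵁ V) := (p.app V).hom.toAlgebra
    let _ : Module Γ(H, V) Γ(F, p ⁻¹ᵁ V) := Module.compHom _ (p.app V).hom
    have : IsScalarTower Γ(H, V) Γ(Z, p ⁻¹ᵁ V) Γ(F, p ⁻¹ᵁ V) := ⟨fun a b m => by
      rw [Algebra.smul_def, mul_smul]; rfl⟩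
    have : Module.Finite Γ(H, V) Γ(Z, p ⁻¹ᵁ V) := hfin
    have : Module.Flat Γ(H, V) Γ(Z, p ⁻¹ᵁ V) := hflat
    have : IsNoetherianRing Γ(H, V) := IsLocallyNoetherian.component_noetherian ⟨V, hV⟩
    have : Module.Finite Γ(Z, p ⁻¹ᵁ V) Γ(F, p ⁻¹ᵁ V) := inferInstance
    have : Module.Finite Γ(H, V) Γ(F, p ⁻¹ᵁ V) := Module.Finite.trans Γ(Z, p ⁻¹ᵁ V) _
    have : Module.Flat Γ(H, V) Γ(F, p ⁻¹ᵁ V) := Module.Flat.trans Γ(H, V) Γ(Z, p ⁻¹ᵁ V) _
    have : Module.FinitePresentation Γ(H, V) Γ(F, p ⁻¹ᵁ V) := Module.finitePresentation_of_finite _ _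
    exact ⟨inferInstance, Module.Flat.projective_of_finitePresentation⟩

end Free

section Alpha

variable (k : Type u) [Field k] {Z H : Scheme.{u}} [Z.Over (Spec (CommRingCat.of k))]
  [H.Over (Spec (CommRingCat.of k))] [IsProper (Z ↘ Spec (CommRingCat.of k))]
  [IsProper (H ↘ Spec (CommRingCat.of k))] (p : Z ⟶ H) [IsFinite p]
  (hp' : p ≫ (H ↘ Spec (CommRingCat.of k)) = Z ↘ Spec (CommRingCat.of k))

include hp' in
/-- Hilbert polynomials of direct images along finite morphisms. -/
theorem hp_push {A : H.Modules} (hA : PicF.IsInvertible A) {F : Z.Modules} (hF : Coh.IsCoh F) :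
    hp k A ((Scheme.Modules.pushforward p).obj F) = hp k ((Scheme.Modules.pullback p).obj A) F := by
  have := isNoetherian_of_proper k H
  have hA' : PicF.IsInvertible ((Scheme.Modules.pullback p).obj A) := Fdesc.LocGen.isInvertible_pullback p hA
  refine (eq_hp k fun m => ?_).symm
  rw [← isHilbPoly_hp k hA' hF m]
  have hAm := Fdesc.LocGen.isInvertible_tensorPow hA m
  have hb : VarietyB.TensCoh.HasBases (CohB1.tensorPow A m) :=
    VarietyB.TensCoh.HasBases.of_isFinLocFreeOfRank (Ega2.QCohLocal.isFinLocFreeOfRank_one_iff.mpr hAm)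
  have e1 := VarietyB.ProjForm.projIso p hb F
  obtain ⟨e2⟩ := Ega3B.PullTensor.nonempty_pullPowIso p hA m
  have c1 : Coh.IsCoh (CohB1.tensorMod ((Scheme.Modules.pullback p).obj (CohB1.tensorPow A m)) F) :=
    isCoh_tensor' (Fdesc.LocGen.isInvertible_pullback p hAm) hF
  have c2 : Coh.IsCoh (twist H A ((Scheme.Modules.pushforward p).obj F) m) :=
    isCoh_twist hA (isCoh_push p hF) m
  have i1 : twist H A ((Scheme.Modules.pushforward p).obj F) m ≅ (Scheme.Modules.pushforward p).obj
      (CohB1.tensorMod ((Scheme.Modules.pullback p).obj (CohB1.tensorPow A m)) F) :=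
    Ega2.Tens.swap _ _ ≪≫ e1
  have i2 : CohB1.tensorMod ((Scheme.Modules.pullback p).obj (CohB1.tensorPow A m)) F ≅
      twist Z ((Scheme.Modules.pullback p).obj A) F m :=
    Ega2.Tens.mapTIso e2 (Iso.refl _) ≪≫ Ega2.Tens.swap _ _
  rw [euler_iso k i1 c2, ← euler_iso k i2 c1]
  exact congrArg _ (VarietyB.HHPush.euler_push p k hp' _ c1.1)

end Alpha

section Dim

variable {Z H : Scheme.{u}} (p : Z ⟶ H) [IsFinite p]

theorem surjective_of_finrank [Flat p] {n : ℕ} (hn : n ≠ 0) (hrk : ∀ y : H, p.finrank y = n) : Surjective p := by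
  rw [← Scheme.Hom.one_le_finrank_iff_surjective]
  intro y
  rw [hrk]
  exact Nat.one_le_iff_ne_zero.2 hn

theorem dim_eq [Surjective p] : topologicalKrullDim Z = topologicalKrullDim H :=
  le_antisymm (K618.TopDim.dim_le_of_fibres p p.continuous fun _ _ h he => K618.Sch.eq_of_specializes_of_eq p h he)
    (K639.SymFacts.dim_le_of_closed p p.continuous p.isClosedMap p.surjective)

end Dim

section Rank

variable (k : Type u) [Field k] {Z H : Scheme.{u}} [Z.Over (Spec (CommRingCat.of k))]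
  [H.Over (Spec (CommRingCat.of k))] [IsProper (Z ↘ Spec (CommRingCat.of k))]
  [IsProper (H ↘ Spec (CommRingCat.of k))] (p : Z ⟶ H) [IsFinite p] [Surjective p]
  (hp' : p ≫ (H ↘ Spec (CommRingCat.of k)) = Z ↘ Spec (CommRingCat.of k))
  [IsIntegral H] [IsIntegral Z]

include hp' in
/-- The rank of a direct image is the rank of the module times the degree. -/
theorem rk_push {A : H.Modules} (hA : CohB1.IsAmple A) {n : ℕ} (hn : topologicalKrullDim H = n)
    {F : Z.Modules} (hF : Coh.IsCoh F) :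
    rk ((Scheme.Modules.pushforward p).obj F) = rk F * rk ((Scheme.Modules.pushforward p).obj (Coh.structureModule Z)) := by
  have hA' : PicF.IsInvertible ((Scheme.Modules.pullback p).obj A) := Fdesc.LocGen.isInvertible_pullback p hA.1
  have hnZ : topologicalKrullDim Z = n := (dim_eq p).trans hn
  have h1 := alpha_rk k hA' hnZ hF
  rw [← hp_push k p hp' hA.1 hF, ← hp_push k p hp' hA.1 isCoh_structureModule,
    alpha_rk k hA.1 hn (isCoh_push p hF), alpha_rk k hA.1 hn (isCoh_push p isCoh_structureModule)] at h1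
  have h2 := alpha_O_pos k hA hn
  have h3 : (rk ((Scheme.Modules.pushforward p).obj F) : ℚ) =
      rk F * rk ((Scheme.Modules.pushforward p).obj (Coh.structureModule Z)) := by
    have h4 := h2.ne'
    field_simp at h1
    linear_combination h1
  exact_mod_cast h3

end Rank

section Split

variable {H : Scheme.{u}} [IsIntegral H] [IsLocallyNoetherian H]

theorem shortExact_biprod (M N : H.Modules) : (ShortComplex.mk (biprod.inl : M ⟶ M ⊞ N) biprod.snd (by simp)).ShortExact :=
  (ShortComplex.Splitting.mk (S := ShortComplex.mk (biprod.inl : M ⟶ M ⊞ N) biprod.snd (by simp)) biprod.fst biprod.inr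
    (by simp) (by simp) (by simp)).shortExact

end Split

end K341.Push
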